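import Mathlib.Data.List.Basic

/-!
# Data for the outer automorphism of `PSp₄(3)` on the three modules
-/

set_option autoImplicit false

namespace CfsgLib.USixAut

/-- The stabiliser of the singular representative of the natural module, as words. -/
def stabW : List (List ℕ) :=
  [[], [5], [4], [5, 4], [2, 5, 2, 2], [2, 2, 1, 0], [2, 2, 5, 2], [5, 2, 2, 5, 2], [2, 2, 1, 0,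
  5], [2, 5, 4, 2, 2], [4, 2, 2, 1, 0], [5, 2, 5, 2, 2], [1, 0, 5, 2, 2], [5, 2, 2, 1, 0], [2, 5,
  2, 1, 0], [2, 1, 1, 0, 0], [2, 2, 5, 4, 2], [2, 1, 0, 5, 2], [2, 2, 5, 1, 0], [5, 2, 2, 5, 4,
  2], [2, 2, 1, 0, 5, 4], [1, 0, 5, 2, 2, 5], [5, 2, 2, 1, 0, 5], [2, 5, 2, 1, 0, 5], [2, 1, 1, 0,
  0, 5], [5, 2, 5, 4, 2, 2], [1, 0, 5, 4, 2, 2], [5, 4, 2, 2, 1, 0], [2, 5, 4, 2, 1, 0], [4, 2, 1,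
  1, 0, 0], [1, 0, 5, 2, 5, 2], [5, 1, 0, 5, 2, 2], [5, 2, 2, 5, 1, 0], [5, 2, 5, 2, 1, 0], [1, 0,
  5, 2, 1, 0], [5, 2, 1, 1, 0, 0], [2, 5, 1, 1, 0, 0], [2, 1, 0, 5, 4, 2], [2, 5, 1, 0, 5, 2], [5,
  2, 1, 0, 5, 2], [1, 1, 0, 0, 5, 2], [2, 2, 5, 4, 1, 0], [2, 2, 5, 1, 0, 5], [2, 1, 0, 5, 1, 0],
  [3, 4, 3, 3, 4, 3], [3, 2, 5, 3, 3, 2, 2], [1, 0, 5, 2, 2, 5, 4], [5, 2, 2, 1, 0, 5, 4], [2, 5,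
  2, 1, 0, 5, 4], [5, 2, 5, 1, 0, 5, 2], [5, 1, 0, 5, 2, 2, 5], [5, 2, 5, 4, 2, 1, 0], [5, 2, 2,
  5, 1, 0, 5], [5, 2, 5, 2, 1, 0, 5], [1, 0, 5, 2, 1, 0, 5], [2, 5, 1, 0, 5, 4, 2], [2, 5, 1, 1,
  0, 0, 5], [1, 0, 5, 2, 5, 4, 2], [5, 1, 0, 5, 4, 2, 2], [5, 1, 1, 0, 0, 5, 2], [5, 2, 2, 5, 4,
  1, 0], [1, 0, 5, 4, 2, 1, 0], [5, 4, 2, 1, 1, 0, 0], [2, 5, 4, 1, 1, 0, 0], [5, 1, 0, 5, 2, 5,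
  2], [1, 1, 0, 0, 5, 2, 5], [1, 1, 0, 0, 5, 4, 2], [2, 2, 5, 1, 0, 5, 4], [5, 1, 0, 5, 2, 1, 0],
  [3, 2, 5, 3, 1, 1, 3], [5, 2, 5, 1, 1, 0, 0], [1, 0, 5, 1, 1, 0, 0], [2, 2, 5, 3, 3, 1, 3], [0,
  0, 5, 3, 2, 5, 1], [3, 2, 5, 3, 1, 3, 2], [5, 2, 1, 0, 5, 4, 2], [3, 2, 2, 5, 3, 1, 3], [1, 1,
  0, 0, 5, 1, 0], [1, 0, 5, 1, 0, 5, 2], [2, 1, 0, 5, 4, 1, 0], [2, 1, 0, 5, 1, 0, 5], [1, 5, 3,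
  2, 5, 0, 0], [2, 5, 1, 0, 5, 1, 0], [5, 2, 1, 0, 5, 1, 0], [5, 3, 4, 3, 3, 4, 3], [4, 3, 4, 3,
  3, 4, 3], [3, 2, 1, 5, 3, 1, 3], [5, 1, 1, 0, 0, 5, 4, 2], [1, 5, 2, 5, 3, 3, 0, 0], [1, 5, 3,
  2, 5, 2, 2, 1], [5, 1, 0, 5, 2, 2, 5, 4], [5, 1, 1, 0, 0, 5, 2, 5], [0, 5, 3, 2, 2, 5, 1, 1],
  [1, 0, 5, 2, 1, 0, 5, 4], [5, 0, 0, 5, 3, 2, 5, 1], [1, 1, 0, 0, 5, 2, 5, 4], [4, 3, 2, 2, 5, 3,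
  1, 3], [5, 1, 0, 5, 2, 1, 0, 5], [1, 5, 1, 0, 0, 5, 0, 0], [5, 3, 2, 2, 5, 3, 1, 3], [1, 0, 5,
  1, 0, 5, 4, 2], [0, 0, 5, 3, 2, 5, 4, 0], [5, 1, 0, 5, 1, 1, 0, 0], [3, 2, 5, 1, 5, 3, 1, 3],
  [5, 3, 2, 5, 3, 1, 1, 3], [5, 2, 5, 1, 0, 5, 1, 0], [5, 1, 0, 5, 4, 2, 1, 0], [5, 1, 1, 0, 0, 5,
  1, 0], [4, 3, 2, 5, 3, 1, 1, 3], [1, 0, 5, 1, 0, 5, 2, 5], [5, 2, 5, 4, 1, 1, 0, 0], [1, 0, 5,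
  4, 1, 1, 0, 0], [2, 1, 0, 5, 1, 0, 5, 4], [5, 1, 5, 3, 2, 5, 0, 0], [2, 5, 1, 0, 5, 4, 1, 0],
  [1, 5, 3, 2, 5, 0, 0, 5], [1, 1, 5, 3, 2, 2, 5, 0], [2, 5, 3, 2, 5, 3, 3, 2], [3, 2, 5, 2, 1, 5,
  3, 3], [4, 3, 2, 1, 5, 3, 1, 3], [0, 0, 5, 2, 5, 3, 3, 1], [4, 3, 2, 5, 3, 1, 3, 2], [2, 5, 3,
  2, 5, 3, 1, 3], [5, 3, 2, 5, 3, 1, 3, 2], [5, 3, 2, 1, 5, 3, 1, 3], [0, 5, 4, 3, 2, 5, 0, 0],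
  [5, 2, 1, 0, 5, 1, 0, 5], [5, 4, 3, 4, 3, 3, 4, 3], [2, 5, 1, 0, 5, 1, 0, 5], [5, 1, 0, 5, 1, 0,
  5, 2], [5, 2, 1, 0, 5, 4, 1, 0], [2, 2, 1, 0, 5, 2, 2, 1, 0], [4, 3, 2, 5, 1, 5, 3, 1, 3], [5,
  4, 3, 2, 5, 3, 1, 1, 3], [5, 2, 5, 1, 0, 5, 4, 1, 0], [5, 1, 5, 1, 0, 0, 5, 0, 0], [1, 0, 5, 1,
  0, 5, 2, 5, 4], [2, 5, 1, 0, 5, 3, 3, 1, 3], [1, 5, 3, 2, 5, 4, 2, 2, 0], [1, 1, 5, 2, 2, 1, 5,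
  3, 1], [3, 2, 5, 3, 2, 0, 5, 3, 2], [5, 3, 2, 5, 1, 5, 3, 1, 3], [5, 1, 5, 3, 2, 5, 2, 2, 1],
  [0, 5, 1, 5, 2, 5, 1, 3, 0], [1, 5, 2, 1, 1, 5, 3, 1, 1], [1, 5, 2, 5, 3, 1, 1, 3, 1], [5, 4, 3,
  2, 5, 3, 1, 3, 2], [2, 0, 5, 1, 1, 0, 5, 2, 0], [5, 2, 5, 1, 0, 5, 1, 0, 5], [5, 4, 3, 2, 2, 5,
  3, 1, 3], [5, 1, 0, 5, 4, 1, 1, 0, 0], [1, 3, 2, 5, 1, 5, 3, 2, 1], [2, 5, 1, 0, 5, 1, 0, 5, 4],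
  [2, 1, 5, 3, 2, 5, 1, 1, 0], [0, 0, 5, 3, 2, 5, 2, 0, 0], [5, 1, 0, 5, 1, 0, 5, 4, 2], [2, 0, 0,
  5, 3, 2, 5, 0, 0], [0, 5, 3, 2, 2, 5, 2, 2, 0], [5, 1, 0, 5, 1, 0, 5, 2, 5], [0, 5, 2, 2, 5, 3,
  3, 1, 1], [2, 2, 0, 5, 3, 2, 2, 5, 0], [0, 5, 1, 5, 2, 5, 3, 2, 0], [5, 0, 0, 5, 2, 5, 3, 3, 1],
  [0, 0, 5, 2, 5, 3, 3, 4, 0], [1, 0, 5, 2, 1, 5, 3, 2, 5, 1], [2, 2, 1, 0, 5, 4, 2, 2, 1, 0], [5,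
  0, 5, 1, 5, 2, 5, 1, 3, 0], [1, 1, 5, 2, 0, 5, 3, 4, 3, 0], [5, 2, 2, 1, 0, 5, 2, 2, 1, 0], [3,
  2, 0, 0, 5, 1, 5, 3, 0, 0], [2, 1, 5, 1, 0, 0, 5, 4, 2, 0], [0, 5, 1, 1, 5, 0, 5, 2, 2, 0], [5,
  2, 0, 0, 5, 3, 2, 5, 0, 0], [5, 2, 2, 0, 5, 3, 2, 2, 5, 0], [0, 5, 3, 2, 2, 5, 2, 1, 0, 0], [1,
  1, 0, 5, 3, 2, 5, 1, 1, 0], [5, 0, 5, 1, 5, 2, 5, 3, 2, 0], [5, 0, 5, 3, 2, 2, 5, 2, 2, 0], [2,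
  5, 0, 0, 5, 3, 2, 5, 0, 0], [0, 5, 2, 2, 5, 3, 1, 1, 3, 0], [0, 5, 2, 2, 5, 3, 3, 2, 2, 0], [1,
  5, 2, 1, 1, 5, 3, 4, 0, 0], [0, 0, 5, 2, 5, 3, 3, 2, 0, 0], [2, 5, 3, 4, 3, 3, 4, 3, 2, 2], [3,
  2, 2, 5, 4, 3, 3, 4, 3, 2], [1, 5, 1, 3, 2, 5, 4, 3, 0, 0], [0, 5, 2, 0, 5, 3, 4, 3, 1, 1], [2,
  2, 5, 1, 0, 5, 2, 2, 1, 0], [1, 5, 2, 1, 1, 5, 1, 1, 3, 0], [5, 0, 0, 5, 3, 2, 5, 2, 0, 0], [1,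
  1, 5, 4, 3, 2, 5, 2, 0, 0], [1, 3, 2, 2, 5, 1, 5, 3, 2, 0, 0]]

/-- The central involution of this stabiliser. -/
def rWord : List ℕ := [4]

/-- The images of the six generators under the outer automorphism. -/
def tw : List (List ℕ) := [[5, 0, 0, 5], [5, 1, 1, 5], [5, 2, 2, 5], [3], [4], [5]]

/-- The matrices of the outer automorphism on the natural module. -/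
def autA : List (List ℕ) :=
  [[84, 252, 81, 243, 69, 207, 21, 63], [168, 84, 162, 81, 138, 69, 42, 21],
    [252, 168, 243, 162, 207, 138, 63, 42]]

/-- The matrices of the outer automorphism, three blocks and a hyperbolic plane. -/
def autP : List (List ℕ) :=
  [[1, 23, 4, 29, 16, 53, 64, 128], [1, 23, 4, 29, 16, 53, 128, 64]]

/-- The matrices of the outer automorphism, three blocks and an anisotropic plane. -/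
def autM : List (List ℕ) :=
  [[1, 23, 4, 29, 16, 53, 64, 128], [1, 23, 4, 29, 16, 53, 64, 192],
    [1, 23, 4, 29, 16, 53, 128, 64], [1, 23, 4, 29, 16, 53, 192, 128]]

end CfsgLib.USixAut
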