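import Cfsg.Agent.USixRec.InJ
import Cfsg.Agent.USixRec.OutCert
import Cfsg.Agent.USixAut.Data

/-!
# Certificates for the automorphism group of `PSp₄(3)` on the three modules
-/

set_option autoImplicit false
set_option maxRecDepth 100000
set_option synthInstance.maxSize 100000
set_option synthInstance.maxHeartbeats 400000

open Matrix CfsgLib.SpFourThree70

namespace CfsgLib.USixAut

open CfsgLib.USixRec
open CfsgLib.ExtraNine (app spanList)

/-! ### The outer automorphism -/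

/-- An anti-symplectic matrix. -/
def dMat5 : Matrix (Fin 2 ⊕ Fin 2) (Fin 2 ⊕ Fin 2) (ZMod 3) :=
  Matrix.diagonal (Sum.elim (fun _ => 1) (fun _ => -1)) * gM 5

/-- Its inverse. -/
def eMat5 : Matrix (Fin 2 ⊕ Fin 2) (Fin 2 ⊕ Fin 2) (ZMod 3) :=
  if dMat5 * dMat5 = 1 then dMat5 else -dMat5

theorem dMat5_chk : dMat5 * eMat5 = 1 ∧ eMat5 * dMat5 = 1 ∧ (dMat5 * dMat5 = 1 ∨ dMat5 * dMat5 = -1) ∧
    dMat5 * Matrix.J (Fin 2) (ZMod 3) * dMat5ᵀ = -Matrix.J (Fin 2) (ZMod 3) ∧
    eMat5 * Matrix.J (Fin 2) (ZMod 3) * eMat5ᵀ = -Matrix.J (Fin 2) (ZMod 3) := by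
  decide +kernel

theorem tw_chk : ∀ k < 6, (∀ j ∈ tw.getD k [], j < 6) ∧
    ((∀ j : Fin 2 ⊕ Fin 2, (fun r => (dMat5 * gM k * eMat5) r j) =
        v3 (wv (tw.getD k []) (3 ^ num j))) ∨
      ∀ j : Fin 2 ⊕ Fin 2, (fun r => (dMat5 * gM k * eMat5) r j) =
        -v3 (wv (tw.getD k []) (3 ^ num j))) := by
  decide +kernel

/-- A word moved by the automorphism. -/
def twW (w : List ℕ) : List ℕ := w.flatMap fun k => tw.getD k []

theorem twW_lt {w : List ℕ} (h : ∀ k ∈ w, k < 6) : ∀ j ∈ twW w, j < 6 := fun j hj => by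
  obtain ⟨k, hk, hjk⟩ := List.mem_flatMap.1 hj
  exact (tw_chk k (h k hk)).1 j hjk

/-- The first vectors of the bases. -/
def baseOf (K : Kind) : List (List ℕ) × List (List ℕ) × ℕ :=
  bif K.mats == matsA then (trsA, fixA, 4) else (trsB, fixB, 3)

/-- The possible images of the first basis vector. -/
def candOf (K : Kind) : List ℕ := bif K.mats == matsA then [84, 168, 252] else [1]

/-- The possible matrices. -/
def autOf (K : Kind) : List (List ℕ) :=
  bif K.mats == matsA then autA else bif K.c == 0 then autP else autM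

/-- The possible images of the remaining basis vectors. -/
def tailOf (K : Kind) : List (List ℕ) :=
  bif K.mats == matsA then [[]] else [64, 128, 192].flatMap fun a => [64, 128, 192].map fun b => [a, b]

theorem base_chk : ∀ K ∈ [kA, kP, kM],
    (∀ j < 2 * (baseOf K).2.2, K.ev (bwd (baseOf K).1 j) 1 = 2 ^ j ∧
      ∀ k ∈ bwd (baseOf K).1 j, k < 6) ∧
    (∀ w ∈ (baseOf K).2.1, K.ev w 1 = 1 ∧ ∀ k ∈ w, k < 6) ∧
    K.ev [] 1 ^^^ K.ev [0] 1 ^^^ K.ev [0, 0] 1 = 0 := by
  decide +kernel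

theorem cand_chk : ∀ K ∈ [kA, kP, kM], ((List.range 256).all fun c =>
    !(decide (c ≠ 0 ∧ (∀ w ∈ (baseOf K).2.1, K.ev (twW w) c = c) ∧
      c ^^^ K.ev (twW [0]) c ^^^ K.ev (twW [0, 0]) c = 0)) || (candOf K).contains c) = true := by
  decide +kernel

theorem plane_fixed_chk : ∀ K ∈ [kP, kM], ((List.range 256).all fun n =>
    !((List.range 6).all fun k => Nat.beq (app (K.mats.getD k []) n) n) ||
      [0, 64, 128, 192].contains n) = true ∧
    ∀ n ∈ [0, 64, 128, 192], ∀ k < 6, app (K.mats.getD k []) n = n := by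
  decide +kernel

theorem mats_cand_chk : ∀ K ∈ [kA, kP, kM], ∀ c ∈ candOf K, ∀ t ∈ tailOf K,
    ((List.range (2 * (baseOf K).2.2)).map fun j => K.ev (twW (bwd (baseOf K).1 j)) c) ++ t ∈ autOf K ∨
    ∃ n < 256, qF K.c (app (((List.range (2 * (baseOf K).2.2)).map
        fun j => K.ev (twW (bwd (baseOf K).1 j)) c) ++ t) n) ≠ qF K.c n ∨
      app (((List.range (2 * (baseOf K).2.2)).map fun j => K.ev (twW (bwd (baseOf K).1 j)) c) ++ t)
        (app (((List.range (2 * (baseOf K).2.2)).map fun j => K.ev (twW (bwd (baseOf K).1 j)) c) ++ t)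
          n) ≠ n := by
  decide +kernel

/-- The fixed vectors of a matrix. -/
def fixL (M : List ℕ) : List ℕ := (List.range 256).filter fun n => Nat.beq (app M n) n

theorem autA_chk : ∀ M ∈ autA, (∀ v ∈ M, v < 256) ∧ M.length = 8 ∧ (fixL M).length = 16 ∧
    (∀ n < 256, app M (app wMat n) = app wMat (app wMat (app M n))) ∧
    ∀ a ∈ fixL M, qF kA.c a = 0 := by
  decide +kernel

theorem wMat_facts : (∀ n < 256, app wMat n = n → n = 0) ∧
    (∀ n < 256, app wMat (app wMat n) = app wMat n ^^^ n) ∧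
    (∀ k < 256, app wMat k < 256) := by
  decide +kernel

theorem autB_chk : ∀ K ∈ [kP, kM], ∀ M ∈ autOf K, (∀ v ∈ M, v < 256) ∧ M.length = 8 ∧
    64 ≤ (fixL M).length ∧
    (∀ n < 64, app M n ^^^ n = 0 ∨ app M n ^^^ n = 21) ∧
    (∃ n < 64, app M n ^^^ n = 21) ∧ qF K.c 21 = 1 ∧ app M 21 = 21 ∧
    128 ≤ ((fixL M).flatMap fun a => [a, a ^^^ 64, a ^^^ 128, a ^^^ 192]).dedup.length := by
  decide +kernel

theorem fixB_len_chk : (spanList datBT.1).length = 64 ∧ (spanList datBS.1).length = 64 ∧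
    (∀ k < 6, ∀ n < 64, app (matsB.getD k []) n < 64) := by
  decide +kernel

/-! ### The stabiliser on the natural module -/

/-- The matrix of a word on the natural module. -/
def ak (w : List ℕ) : List ℕ := (List.range 8).map fun j => kA.ev w (2 ^ j)

theorem stabW_chk : (∀ w ∈ stabW, (∀ k ∈ w, k < 6) ∧ kA.ev w 5 = 5) ∧ stabW.length = 192 ∧
    (stabW.map ak).Nodup := by
  decide +kernel

theorem sing_count_chk :
    ((List.range 256).filter fun n => decide (n ≠ 0 ∧ qF kA.c n = 0)).length = 135 := by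
  decide +kernel

/-- The conjugators used. -/
def conjW : List (List ℕ) :=
  [[]] ++ stAt kA 0 ++ (stAt kA 0).flatMap fun a => (stAt kA 0).map fun b => a ++ b

/-- The involutions of the stabiliser. -/
def invW : List (List ℕ) :=
  stabW.filter fun w => decide (ak (w ++ w) = ak [] ∧ ak w ≠ ak [])

/-- Those commuting with their conjugates under the generators. -/
def normW : List (List ℕ) :=
  invW.filter fun w => (stAt kA 0).all fun c =>
    decide (ak (w ++ (c ++ w ++ winv c)) = ak (c ++ w ++ winv c ++ w))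

theorem conjW_chk : ∀ c ∈ conjW, kA.ev c 5 = 5 ∧ ∀ k ∈ c, k < 6 := by
  decide +kernel

theorem orbit_chk : ∀ w ∈ invW,
    ak w = ak rWord ∨ 4 ≤ ((conjW.map fun c => ak (c ++ w ++ winv c)).dedup).length := by
  decide +kernel

theorem norm_chk : ∀ w ∈ normW,
    ak w = ak rWord ∨ (normW.filter fun v => decide (ak (w ++ v) = ak (v ++ w))).length < 15 := by
  decide +kernel

/-! ### The remaining singular vectors -/

theorem keptA_chk : ∀ u ∈ ((singKept kA).getD 0 (0, [])).2, u = 0 ∨ u = 5 ∨ u = 10 ∨ u = 15 ∨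
    ∃ l ∈ [[0], [1], [2], [3], [2, 3], [3, 2], [2, 2], [3, 3]],
      (spanList [5, 10, u, kA.ev (stWord kA 0 l) u]).length = 16 := by
  decide +kernel

theorem keptB_chk : ∀ K ∈ [kP, kM], ∀ i < (singStb K).length,
    ∀ u ∈ ((singKept K).getD i (0, [])).2, u = 0 ∨ u = repAt K i ∨
      ∃ d ∈ [64, 128, 192], (u = d ∨ u = repAt K i ^^^ d) ∧
        ∃ k < 6, app (K.mats.getD k []) (repAt K i ^^^ d) ≠ repAt K i ^^^ d := by
  decide +kernel

end CfsgLib.USixAut
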