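import Cfsg.Agent.USixAut.Cert

/-!
# Fixed vectors orthogonal to the fixed space lie in the image
-/

set_option autoImplicit false
set_option maxRecDepth 100000
set_option synthInstance.maxSize 100000
set_option synthInstance.maxHeartbeats 400000

namespace CfsgLib.USixAut

open CfsgLib.USixRec
open CfsgLib.ExtraNine (app)

theorem rad_chk : ∀ K ∈ [kA, kP, kM], ∀ M ∈ autOf K, ∀ n ∈ fixL M,
    (∀ f ∈ fixL M, bF n f = 0) → ∃ k < 256, app M k ^^^ k = n := by
  decide +kernel

end CfsgLib.USixAut
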