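import Cfsg.Agent.USixAut.Outer
import Cfsg.Agent.USixAut.RadCert

/-!
# An outer element of `C(z)` with square in `⟨z⟩`

The outer automorphism given by an explicit anti-symplectic matrix determines the action on `J / Z(J)`
in coordinates; some element of `C(z)` inducing it squares into `⟨z⟩`.
-/

set_option autoImplicit false
set_option maxRecDepth 100000
set_option linter.style.haveILetI false

open Matrix CfsgLib.LargeExtraspecial
open CfsgLib.SpFourThree70 (P toP toP_surjective toP_eq_iff num)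

namespace CfsgLib.USixAut

open CfsgLib.ExtraNine (app app_xor app_zero)
open CfsgLib.USixRec

universe u

local notation "Sp3" => Matrix.symplecticGroup (Fin 2) (ZMod 3)

theorem conjD_mem {A : Matrix (Fin 2 ⊕ Fin 2) (Fin 2 ⊕ Fin 2) (ZMod 3)} (hA : A ∈ Sp3)
    {D E : Matrix (Fin 2 ⊕ Fin 2) (Fin 2 ⊕ Fin 2) (ZMod 3)}
    (hD : D * Matrix.J (Fin 2) (ZMod 3) * Dᵀ = -Matrix.J (Fin 2) (ZMod 3))
    (hE : E * Matrix.J (Fin 2) (ZMod 3) * Eᵀ = -Matrix.J (Fin 2) (ZMod 3)) : D * A * E ∈ Sp3 := by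
  rw [SymplecticGroup.mem_iff] at hA ⊢
  calc D * A * E * Matrix.J (Fin 2) (ZMod 3) * (D * A * E)ᵀ
      = D * (A * (E * Matrix.J (Fin 2) (ZMod 3) * Eᵀ) * Aᵀ) * Dᵀ := by
        rw [Matrix.transpose_mul, Matrix.transpose_mul]; noncomm_ring
    _ = -(D * (A * Matrix.J (Fin 2) (ZMod 3) * Aᵀ) * Dᵀ) := by rw [hE]; noncomm_ring
    _ = Matrix.J (Fin 2) (ZMod 3) := by rw [hA, hD, neg_neg]

/-- Conjugation by the anti-symplectic matrix. -/
def conjSp5 : Sp3 ≃* Sp3 where
  toFun A := ⟨dMat5 * A.1 * eMat5, conjD_mem A.2 dMat5_chk.2.2.2.1 dMat5_chk.2.2.2.2⟩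
  invFun A := ⟨eMat5 * A.1 * dMat5, conjD_mem A.2 dMat5_chk.2.2.2.2 dMat5_chk.2.2.2.1⟩
  left_inv A := Subtype.ext (by
    show eMat5 * (dMat5 * A.1 * eMat5) * dMat5 = A.1
    rw [show eMat5 * (dMat5 * A.1 * eMat5) * dMat5 = (eMat5 * dMat5) * A.1 * (eMat5 * dMat5) by
      noncomm_ring, dMat5_chk.2.1, one_mul, mul_one])
  right_inv A := Subtype.ext (by
    show dMat5 * (eMat5 * A.1 * dMat5) * eMat5 = A.1
    rw [show dMat5 * (eMat5 * A.1 * dMat5) * eMat5 = (dMat5 * eMat5) * A.1 * (dMat5 * eMat5) by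
      noncomm_ring, dMat5_chk.1, one_mul, mul_one])
  map_mul' A B := Subtype.ext (by
    show dMat5 * (A.1 * B.1) * eMat5 = dMat5 * A.1 * eMat5 * (dMat5 * B.1 * eMat5)
    rw [show dMat5 * A.1 * eMat5 * (dMat5 * B.1 * eMat5) =
      dMat5 * A.1 * (eMat5 * dMat5) * B.1 * eMat5 by noncomm_ring, dMat5_chk.2.1, mul_one]
    noncomm_ring)

theorem conjSp5_center :
    (Subgroup.center Sp3).map conjSp5.toMonoidHom = Subgroup.center Sp3 :=
  Subgroup.characteristic_iff_map_eq.1 inferInstance conjSp5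

/-- The outer automorphism. -/
def tauP : MulAut P := QuotientGroup.congr _ _ conjSp5 conjSp5_center

theorem tauP_toP (A : Sp3) : tauP (toP A) = toP (conjSp5 A) := rfl

theorem tauP_gen {k : ℕ} (hk : k < 6) : tauP (wP [k]) = wP (tw.getD k []) := by
  rw [wP, tauP_toP]
  refine toP_eq_iff.2 ?_
  have hg : (conjSp5 (wS [k])).1 = dMat5 * gM k * eMat5 := by
    show dMat5 * (wS [k]).1 * eMat5 = _
    simp [wS, gS]
  have hcol : ∀ (j : Fin 2 ⊕ Fin 2) r,
      (wS (tw.getD k [])).1 r j = v3 (wv (tw.getD k []) (3 ^ num j)) r := fun j r => by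
    obtain ⟨h1, -, h3⟩ := basis_chk j
    rw [← (wv_spec _ h1).1, h3, mulVec_single_one]
    rfl
  rw [hg]
  rcases (tw_chk k hk).2 with h | h
  · exact Or.inl (Matrix.ext fun r j => (hcol j r).trans (congrFun (h j) r).symm)
  · exact Or.inr (Matrix.ext fun r j => by
      rw [Matrix.neg_apply, hcol, show (dMat5 * gM k * eMat5) r j = -v3 _ r from congrFun (h j) r,
        neg_neg])

theorem tauP_word : ∀ w : List ℕ, (∀ k ∈ w, k < 6) → tauP (wP w) = wP (twW w)
  | [], _ => by rw [twW, List.flatMap_nil, wP_nil, map_one]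
  | k :: w, h => by
    rw [wP_cons k w, map_mul, tauP_gen (h k List.mem_cons_self),
      tauP_word w fun j hj => h j (List.mem_cons_of_mem _ hj), ← wP_append]
    rfl

theorem tauP_sq : tauP * tauP = 1 := by
  refine MulEquiv.ext fun x => ?_
  obtain ⟨A, rfl⟩ := toP_surjective x
  show tauP (tauP (toP A)) = toP A
  rw [tauP_toP, tauP_toP]
  congr 1
  refine Subtype.ext ?_
  show dMat5 * (dMat5 * A.1 * eMat5) * eMat5 = A.1
  obtain ⟨h1, h2, h3, -⟩ := dMat5_chk
  rcases h3 with h | h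
  · have he : eMat5 = dMat5 := by rw [← one_mul eMat5, ← h, mul_assoc, h1, mul_one]
    rw [he, show dMat5 * (dMat5 * A.1 * dMat5) * dMat5 = (dMat5 * dMat5) * A.1 * (dMat5 * dMat5) by
      noncomm_ring, h, one_mul, mul_one]
  · have he : eMat5 = -dMat5 := by
      rw [← neg_neg eMat5, ← neg_one_mul eMat5, ← h, mul_assoc, h1, mul_one]
    rw [he, show dMat5 * (dMat5 * A.1 * -dMat5) * -dMat5 = (dMat5 * dMat5) * A.1 * (dMat5 * dMat5) by
      noncomm_ring, h]
    simp

namespace AutShape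

variable {G : Type u} [Group G] {S : AutShape G} [Finite G] (F : Frame S.S0)

omit [Finite G] in
theorem psi_map (φ : S.Vec →+ S.Vec) {M : List ℕ}
    (h : ∀ j < 8, φ (psi F.e (2 ^ j)) = psi F.e (app M (2 ^ j))) {n : ℕ} (hn : n < 256) :
    φ (psi F.e n) = psi F.e (app M n) :=
  vec_induction (fun n => φ (psi F.e n) = psi F.e (app M n))
    (by rw [psi_zero, map_zero, app_zero, psi_zero])
    (fun a b ha hb => by rw [psi_xor, map_add, ha, hb, app_xor, psi_xor]) h hn

theorem app_two_pow : ∀ (M : List ℕ) (j : ℕ), app M (2 ^ j) = M.getD j 0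
  | [], j => rfl
  | v :: vs, 0 => by simp [ExtraNine.app, app_zero]
  | v :: vs, j + 1 => by
    rw [ExtraNine.app, show 2 ^ (j + 1) % 2 = 0 by rw [pow_succ]; omega,
      show 2 ^ (j + 1) / 2 = 2 ^ j by rw [pow_succ]; omega, app_two_pow vs j]
    simp

omit [Finite G] in
/-- The outer automorphism in coordinates. -/
theorem exists_matrix {m : ↥S.C} (hm : S.ρ m = tauP) :
    ∃ M ∈ autOf F.K, ∀ n < 256, S.cact m (psi F.e n) = psi F.e (app M n) := by
  classical
  have hK := F.K_mem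
  have hm2 : S.ρ (m * m) = 1 := by rw [map_mul, hm, tauP_sq]
  obtain ⟨hbase, hfix, hmv⟩ := base_chk F.K hK
  obtain ⟨c, hc, hcv⟩ := F.surj (S.cact m (psi F.e 1))
  have hmove : ∀ w : List ℕ, (∀ k ∈ w, k < 6) →
      S.cact m (psi F.e (F.K.ev w 1)) = psi F.e (F.K.ev (twW w) c) := fun w hw => by
    rw [← F.act_psi hw, cact_twist, hm, tauP_word w hw, ← hcv, F.act_psi (twW_lt hw)]
  have hc0 : c ≠ 0 := fun h => by
    have h2 := congrArg (S.cact m) hcv.symm
    rw [h, psi_zero, map_zero, ← cact_mul, cact_congr (n := 1) (by rw [hm2, map_one]), cact_one] at h2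
    exact absurd (F.inj 1 (by norm_num) h2) one_ne_zero
  have hcfix : ∀ w ∈ (baseOf F.K).2.1, F.K.ev (twW w) c = c := fun w hw => by
    obtain ⟨h1, h2⟩ := hfix w hw
    have := hmove w h2
    rw [h1, ← hcv] at this
    exact (F.heq hc (F.ev_lt _ hc) this).symm
  have hcmv : c ^^^ F.K.ev (twW [0]) c ^^^ F.K.ev (twW [0, 0]) c = 0 := by
    refine F.inj _ (Nat.xor_lt_two_pow (n := 8) (Nat.xor_lt_two_pow (n := 8) hc (F.ev_lt _ hc))
      (F.ev_lt _ hc)) ?_
    rw [psi_xor, psi_xor, ← hmove [0] (by simp), ← hmove [0, 0] (by simp), hcv,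
      show (1 : ℕ) = F.K.ev [] 1 from rfl, ← map_add, ← map_add, ← psi_xor, ← psi_xor]
    rw [show F.K.ev [] 1 ^^^ F.K.ev [0] (F.K.ev [] 1) ^^^ F.K.ev [0, 0] (F.K.ev [] 1) = 0 from hmv,
      psi_zero, map_zero]
  have hcand : c ∈ candOf F.K := by
    have := List.all_eq_true.1 (cand_chk F.K hK) c (List.mem_range.2 hc)
    rw [decide_eq_true (⟨hc0, hcfix, hcmv⟩ : c ≠ 0 ∧ _ ∧ _)] at this
    simpa using this
  set cols := (List.range (2 * (baseOf F.K).2.2)).map fun j => F.K.ev (twW (bwd (baseOf F.K).1 j)) c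
    with hcols
  obtain ⟨t, ht, htlen, htv⟩ : ∃ t ∈ tailOf F.K, 2 * (baseOf F.K).2.2 + t.length = 8 ∧
      ∀ i < t.length, S.cact m (psi F.e (2 ^ (2 * (baseOf F.K).2.2 + i))) = psi F.e (t.getD i 0) := by
    rcases F.kind with h | h | h
    · exact ⟨[], by rw [h]; decide, by rw [h]; decide, fun i hi => absurd hi (by simp)⟩
    all_goals
      have hKB : F.K ∈ [kP, kM] := by simp [h]
      obtain ⟨hall, hfx⟩ := plane_fixed_chk F.K hKB
      have himg : ∀ d ∈ [64, 128], ∃ b ∈ [64, 128, 192], S.cact m (psi F.e d) = psi F.e b := by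
        intro d hd
        have hd4 : d ∈ [0, 64, 128, 192] := by
          simp only [List.mem_cons, List.not_mem_nil, or_false] at hd ⊢; omega
        have hd256 : d < 256 ∧ d ≠ 0 := by
          simp only [List.mem_cons, List.not_mem_nil, or_false] at hd; omega
        have hfixσ : ∀ σ : P, S.S0.act σ (psi F.e d) = psi F.e d := by
          intro σ
          obtain ⟨w, hw, -, hev⟩ := F.exists_ev σ
          rw [hev]
          congr 1
          clear hev
          induction w with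
          | nil => rfl
          | cons k w ih =>
            show app (F.K.mats.getD k []) (F.K.ev w d) = d
            rw [ih fun j hj => hw j (List.mem_cons_of_mem _ hj), hfx d hd4 k (hw k List.mem_cons_self)]
        obtain ⟨b, hb, hbv⟩ := F.surj (S.cact m (psi F.e d))
        refine ⟨b, ?_, hbv.symm⟩
        have hb4 : b ∈ [0, 64, 128, 192] := by
          have := List.all_eq_true.1 hall b (List.mem_range.2 hb)
          rw [show ((List.range 6).all fun k => Nat.beq (app (F.K.mats.getD k []) b) b) = true from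
            List.all_eq_true.2 fun k hk => by
              rw [Nat.beq_eq]
              refine F.heq (F.ev_lt [k] hb) hb ?_
              rw [show app (F.K.mats.getD k []) b = F.K.ev [k] b from rfl,
                ← F.act_psi (w := [k]) (by simpa using List.mem_range.1 hk), hbv,
                fixed_cact hfixσ]] at this
          simpa using this
        have hb0 : b ≠ 0 := fun h0 => by
          have h2 := congrArg (S.cact m) hbv.symm
          rw [h0, psi_zero, map_zero, ← cact_mul, cact_congr (n := 1) (by rw [hm2, map_one]),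
            cact_one] at h2
          exact hd256.2 (F.inj d hd256.1 h2)
        simp only [List.mem_cons, List.not_mem_nil, or_false] at hb4 ⊢
        omega
      obtain ⟨a, ha, hav⟩ := himg 64 (by simp)
      obtain ⟨b, hb, hbv⟩ := himg 128 (by simp)
      refine ⟨[a, b], ?_, by rw [h]; rfl, fun i hi => ?_⟩
      · have e : tailOf F.K =
            [64, 128, 192].flatMap fun a => [64, 128, 192].map fun b => [a, b] := by rw [h]; rfl
        rw [e, List.mem_flatMap]
        exact ⟨a, ha, List.mem_map.2 ⟨b, hb, rfl⟩⟩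
      · have e : (baseOf F.K).2.2 = 3 := by rw [h]; rfl
        rw [e]
        have : i < 2 := by simpa using hi
        interval_cases i
        exacts [hav, hbv]
  have hMeq : ∀ n < 256, S.cact m (psi F.e n) = psi F.e (app (cols ++ t) n) := by
    refine fun n hn => psi_map F _ (fun j hj => ?_) hn
    rw [app_two_pow]
    by_cases hjb : j < 2 * (baseOf F.K).2.2
    · rw [List.getD_append _ _ _ _ (by simp [hcols, hjb]), ← (hbase j hjb).1,
        hmove _ (hbase j hjb).2]
      congr 1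
      rw [List.getD_eq_getElem _ _ (by simp [hcols, hjb])]
      simp [hcols]
    · rw [List.getD_append_right _ _ _ _ (by simp [hcols]; omega)]
      obtain ⟨i, rfl⟩ : ∃ i, j = 2 * (baseOf F.K).2.2 + i := ⟨j - 2 * (baseOf F.K).2.2, by omega⟩
      simp only [hcols, List.length_map, List.length_range, Nat.add_sub_cancel_left]
      exact htv i (by omega)
  rcases mats_cand_chk F.K hK c hcand t ht with h | ⟨n, hn, h⟩
  · exact ⟨_, h, hMeq⟩
  · exfalso
    have hlen : ∀ v ∈ cols ++ t, v < 256 := by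
      intro v hv
      rcases List.mem_append.1 hv with h' | h'
      · obtain ⟨j, -, rfl⟩ := List.mem_map.1 h'
        exact F.ev_lt _ hc
      · have hT : ∀ t ∈ tailOf F.K, ∀ v ∈ t, v < 256 := by
          rcases F.kind with e | e | e <;> rw [e] <;> decide
        exact hT t ht v h'
    have hlt : ∀ k, app (cols ++ t) k < 256 := fun k => ExtraNine.app_lt _ hlen k
    rcases h with h | h
    · exact h (by rw [← F.q_psi _ (hlt n), ← hMeq n hn, cact_q, F.q_psi n hn])
    · exact h (F.heq (hlt _) hn (by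
        rw [← hMeq _ (hlt n), ← hMeq n hn, ← cact_mul, cact_congr (n := 1) (by rw [hm2, map_one]),
          cact_one]))

omit [Finite G] in
theorem mem_fixS_iff {m : ↥S.C} {M : List ℕ}
    (hM : ∀ n < 256, S.cact m (psi F.e n) = psi F.e (app M n)) (hlt : ∀ v ∈ M, v < 256) {n : ℕ}
    (hn : n < 256) : psi F.e n ∈ S.fixS m ↔ n ∈ fixL M := by
  rw [AutShape.mem_fixS, hM n hn, fixL, List.mem_filter, List.mem_range, Nat.beq_eq]
  exact ⟨fun h => ⟨hn, F.heq (ExtraNine.app_lt _ hlt _) hn h⟩, fun h => by rw [h.2]⟩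

omit [Finite G] in
theorem card_fixS {m : ↥S.C} {M : List ℕ}
    (hM : ∀ n < 256, S.cact m (psi F.e n) = psi F.e (app M n)) (hlt : ∀ v ∈ M, v < 256) :
    Nat.card (S.fixS m) = (fixL M).length := by
  classical
  have hnd : (fixL M).Nodup := List.nodup_range.filter _
  have hlt' : ∀ n ∈ fixL M, n < 256 := fun n hn => List.mem_range.1 (List.mem_filter.1 hn).1
  let f : {n // n ∈ (fixL M).toFinset} → S.fixS m := fun n =>
    ⟨psi F.e n.1, (mem_fixS_iff F hM hlt (hlt' n.1 (List.mem_toFinset.1 n.2))).2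
      (List.mem_toFinset.1 n.2)⟩
  have hf : Function.Bijective f := by
    refine ⟨fun a b h => Subtype.ext (F.heq (hlt' _ (List.mem_toFinset.1 a.2))
      (hlt' _ (List.mem_toFinset.1 b.2)) (congrArg Subtype.val h)), fun ⟨v, hv⟩ => ?_⟩
    obtain ⟨n, hn, rfl⟩ := F.surj v
    exact ⟨⟨n, List.mem_toFinset.2 ((mem_fixS_iff F hM hlt hn).1 hv)⟩, rfl⟩
  rw [← Nat.card_eq_of_bijective f hf, Nat.card_eq_finsetCard, List.toFinset_card_of_nodup hnd]

omit [Finite G] in
theorem autOf_lt : ∀ M ∈ autOf F.K, ∀ v ∈ M, v < 256 := by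
  intro M hM
  rcases F.kind with h | h | h
  · exact (autA_chk M (by rw [h] at hM; exact hM)).1
  · exact (autB_chk F.K (by simp [h]) M hM).1
  · exact (autB_chk F.K (by simp [h]) M hM).1

omit [Finite G] in
include F in
/-- An outer element with square in `⟨z⟩`. -/
theorem exists_outer : ∃ h : ↥S.C, S.ρ h = tauP ∧ ((h : G) * h = 1 ∨ (h : G) * h = S.z) := by
  obtain ⟨m, hm⟩ := S.ρ_surj tauP
  obtain ⟨M, hMmem, hM⟩ := exists_matrix F hm
  have hlt := autOf_lt F M hMmem
  have hm2 : S.ρ (m * m) = 1 := by rw [map_mul, hm, tauP_sq]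
  have hj : (m : G) * m ∈ S.Q := (S.ρ_ker (m * m)).1 hm2
  obtain ⟨n, hn, hnv⟩ := F.surj (S.pG ((m : G) * m))
  have hfix : n ∈ fixL M := by
    refine (mem_fixS_iff F hM hlt hn).1 ?_
    rw [hnv, mem_fixS, cact_pG m hj]
    congr 1
    group
  have horth : ∀ f ∈ fixL M, bF n f = 0 := by
    intro f hf
    have hf256 : f < 256 := List.mem_range.1 (List.mem_filter.1 hf).1
    obtain ⟨c, hc, hcv⟩ := pG_surj (psi F.e f)
    have h1 : S.cact m (S.pG c) = S.pG c := by
      rw [← mem_fixS, hcv]; exact (mem_fixS_iff F hM hlt hf256).2 hf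
    rw [cact_pG m hc, pG_eq_iff (S.conj_mem m.2 hc) hc] at h1
    rw [← F.B_psi hn hf256, hnv, ← hcv, B_pG hj hc]
    refine mul_inv_eq_iff_eq_mul.1 ?_
    rw [show (m : G) * m * c * ((m : G) * m)⁻¹ = (m : G) * ((m : G) * c * (m : G)⁻¹) * (m : G)⁻¹ by group]
    rcases h1 with e | e
    · rw [e, e]
    · rw [e, show (m : G) * (S.z * c) * (m : G)⁻¹ = (m : G) * S.z * c * (m : G)⁻¹ by group,
        S.comm_C m.2, show S.z * (m : G) * c * (m : G)⁻¹ = S.z * ((m : G) * c * (m : G)⁻¹) by group, e,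
        ← mul_assoc, S.sub.mul_self, one_mul]
  obtain ⟨k, hk, hkn⟩ := rad_chk F.K F.K_mem M hMmem n hfix horth
  obtain ⟨y, hy, hyv⟩ := pG_surj (psi F.e k)
  refine ⟨m * ⟨y, S.Q_le_C hy⟩, by rw [map_mul, (S.ρ_ker ⟨y, _⟩).2 hy, mul_one, hm], ?_⟩
  have hy' : (m : G)⁻¹ * y * m ∈ S.Q := by
    simpa using S.conj_mem (inv_mem m.2) hy
  have e : ((m * ⟨y, S.Q_le_C hy⟩ : ↥S.C) : G) * ((m * ⟨y, S.Q_le_C hy⟩ : ↥S.C) : G) =
      ((m : G) * m) * ((m : G)⁻¹ * y * m * y) := by
    simp only [Subgroup.coe_mul]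
    group
  rw [e]
  refine (pG_eq_zero (mul_mem hj (mul_mem hy' hy))).1 ?_
  have hinv : S.pG ((m : G)⁻¹ * y * m) = psi F.e (app M k) := by
    have h := cact_pG m⁻¹ hy
    simp only [Subgroup.coe_inv, inv_inv] at h
    rw [← h, cact_congr (n := m) (by rw [map_inv, hm]; exact inv_eq_of_mul_eq_one_right tauP_sq), hyv,
      hM k hk]
  rw [pG_mul hj (mul_mem hy' hy), pG_mul hy' hy, hinv, hyv, ← hnv, ← psi_xor, ← psi_xor, hkn,
    Nat.xor_self, psi_zero]

/-! ### The scalar on the natural module -/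

omit [Finite G] in
theorem index_add {f : S.Vec → ℕ} (hf : ∀ v, f v < 256 ∧ psi F.e (f v) = v) (v v' : S.Vec) :
    f (v + v') = f v ^^^ f v' :=
  F.heq (hf _).1 (Nat.xor_lt_two_pow (n := 8) (hf v).1 (hf v').1)
    (by rw [psi_xor, (hf _).2, (hf v).2, (hf v').2])

/-- The multiplication by a cube root of one. -/
noncomputable def omega : S.Vec →+ S.Vec :=
  AddMonoidHom.mk' (fun v => psi F.e (app wMat (Classical.choose (F.surj v)))) fun v v' => by
    rw [← psi_xor, ← app_xor, index_add F (f := fun v => Classical.choose (F.surj v))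
      fun v => Classical.choose_spec (F.surj v)]

omit [Finite G] in
theorem omega_psi {n : ℕ} (hn : n < 256) : omega F (psi F.e n) = psi F.e (app wMat n) := by
  show psi F.e (app wMat (Classical.choose (F.surj (psi F.e n)))) = _
  obtain ⟨h1, h2⟩ := Classical.choose_spec (F.surj (psi F.e n))
  rw [F.heq h1 hn h2]

omit [Finite G] in
theorem omega_lin (hK : F.K = kA) {m : ↥S.C} (hm : (m : G) ∈ S.H0) (v : S.Vec) :
    S.cact m (omega F v) = omega F (S.cact m v) := by
  obtain ⟨n, hn, rfl⟩ := F.surj v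
  rw [omega_psi F hn, cact_inn hm, cact_inn hm]
  obtain ⟨w, hw, -, hev⟩ := F.exists_ev (S.inn ⟨(m : G), hm⟩)
  rw [hev, hev, omega_psi F (F.ev_lt w hn), hK, ev_wMat w hw n hn]

theorem outer_not_inner (hK : F.K = kA) {h : ↥S.C} (hh : S.ρ h = tauP) : (h : G) ∉ S.H0 := by
  intro hH
  obtain ⟨M, hMmem, hM⟩ := exists_matrix F hh
  rw [hK] at hMmem
  obtain ⟨hlt, -, -, hanti, -⟩ := autA_chk M hMmem
  obtain ⟨hfp, -, hwlt⟩ := wMat_facts
  obtain ⟨c, hc, hcv⟩ := F.surj (S.cact h (psi F.e 1))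
  have h1 : app M 1 = c := F.heq (ExtraNine.app_lt _ hlt _) hc (by rw [← hM 1 (by norm_num), hcv])
  have h3 := omega_lin F hK hH (psi F.e 1)
  rw [omega_psi F (by norm_num), hM _ (hwlt 1 (by norm_num)), hanti 1 (by norm_num), h1, ← hcv,
    omega_psi F hc] at h3
  have h4 := hfp _ (hwlt c hc) (F.heq (hwlt _ (hwlt c hc)) (hwlt c hc) h3)
  have h5 : psi F.e c = 0 := by
    rw [show c = app wMat (app wMat c) ^^^ app wMat c by
      rw [(wMat_facts.2.1 c hc), Nat.xor_comm (app wMat c), Nat.xor_assoc, Nat.xor_self, Nat.xor_zero],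
      h4, app_zero, Nat.xor_zero, psi_zero]
  rw [hcv] at h5
  have h6 : psi F.e 1 = 0 := by
    have := congrArg (S.cact h⁻¹) h5
    rwa [← cact_mul, inv_mul_cancel, cact_one, map_zero] at this
  exact one_ne_zero (F.inj 1 (by norm_num) h6)

/-- The scalar. -/
theorem exists_scalar (hK : F.K = kA) : Nonempty (Scalar S) := by
  obtain ⟨h, hh⟩ := S.ρ_surj tauP
  have hout := outer_not_inner F hK hh
  obtain ⟨M, hMmem, hM⟩ := exists_matrix F hh
  rw [hK] at hMmem
  obtain ⟨hlt, -, -, hanti, -⟩ := autA_chk M hMmem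
  obtain ⟨hfp, hsq, hwlt⟩ := wMat_facts
  have hsemi : ∀ v, S.cact h (omega F v) = omega F (omega F (S.cact h v)) := fun v => by
    obtain ⟨n, hn, rfl⟩ := F.surj v
    have hl := ExtraNine.app_lt _ hlt n
    rw [omega_psi F hn, hM _ (hwlt n hn), hM n hn, omega_psi F hl, omega_psi F (hwlt _ hl),
      hanti n hn]
  refine ⟨⟨omega F, fun v hv => ?_, fun v => ?_, fun m hm v => omega_lin F hK hm v, fun m hm v => ?_⟩⟩
  · obtain ⟨n, hn, rfl⟩ := F.surj v
    rw [omega_psi F hn] at hv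
    rw [hfp n hn (F.heq (hwlt n hn) hn hv), psi_zero]
  · obtain ⟨n, hn, rfl⟩ := F.surj v
    rw [omega_psi F hn, omega_psi F (hwlt n hn), hsq n hn, psi_xor]
  · have hin : ((m * h⁻¹ : ↥S.C) : G) ∈ S.H0 := by
      show (m : G) * (h : G)⁻¹ ∈ S.H0
      rw [S.mul_mem_H0_iff m.2 (inv_mem h.2), inv_mem_iff]
      exact iff_of_false hm hout
    have e : ∀ w, S.cact m w = S.cact (m * h⁻¹) (S.cact h w) := fun w => by
      rw [← cact_mul, inv_mul_cancel_right]
    rw [e, e v, hsemi, omega_lin F hK hin, omega_lin F hK hin]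

end AutShape

end CfsgLib.USixAut
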