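import Cfsg.Agent.USixAut.Setup
import Cfsg.Agent.USixAut.Cert

/-!
# No other conjugate of the central involution lies in `J`, automorphism group case

For a conjugate `s ≠ z` inside `Q` let `Eb` be the image of `Q ∩ T` in `Q / Z(Q)` and `B` the image
of the inner part of `T ∩ C(z)` in `PSp₄(3)`. The stabiliser of `s̄` normalises `B`, which is
elementary abelian; an element of `T ∩ C(z)` moving a vector of `Eb` must respect the fixed plane,
respectively the scalars, and the stabiliser on the natural module normalises no such `B`.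
-/

set_option autoImplicit false
set_option maxRecDepth 100000
set_option linter.style.haveILetI false

open CfsgLib.LargeExtraspecial CfsgLib.SpFourThree70

namespace CfsgLib.USixAut

open CfsgLib.ExtraNine (app spanList spanList_induction)
open CfsgLib.USixRec

universe u

/-- An elementary abelian 2-subgroup has at most sixteen elements. -/
theorem card_elementary_le {B : Subgroup P} (hc : ∀ x ∈ B, ∀ y ∈ B, x * y = y * x)
    (hs : ∀ x ∈ B, x * x = 1) : Nat.card B ≤ 16 := by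
  have hp : IsPGroup 2 ↥B := fun a => ⟨1, by apply Subtype.ext; simpa [sq] using hs a a.2⟩
  obtain ⟨j, hj⟩ := hp.exists_card_eq
  by_contra h
  rw [hj] at h
  have h5 : 2 ^ 5 ≤ 2 ^ j := Nat.pow_le_pow_right (by norm_num) <| by
    by_contra h'
    exact h ((Nat.pow_le_pow_right (by norm_num) (show j ≤ 4 by omega)).trans (by norm_num))
  have h4 := (card_centre_le hp (by rw [hj]; simpa using h5) le_rfl hc).1
  rw [hj] at h4
  norm_num at h5
  omega

theorem winv_lt {c : List ℕ} (h : ∀ k ∈ c, k < 6) : ∀ k ∈ winv c, k < 6 := by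
  induction c with
  | nil => simp [winv]
  | cons a c ih =>
    intro k hk
    rw [winv, List.mem_append] at hk
    rcases hk with hk | hk
    · exact ih (fun j hj => h j (List.mem_cons_of_mem _ hj)) k hk
    · have := h a List.mem_cons_self
      revert hk; cases Nat.blt a 4 <;> simp <;> omega

namespace AutShape

variable {G : Type u} [Group G] {S : AutShape G}

/-- A vector fixed by `PSp₄(3)` stays so under `C(z)`. -/
theorem fixed_cact {v : S.Vec} (hv : ∀ σ : P, S.S0.act σ v = v) (m : ↥S.C) (σ : P) :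
    S.S0.act σ (S.cact m v) = S.cact m v := by
  have h := cact_twist m ((S.ρ m)⁻¹ σ) v
  rw [hv, MulAut.apply_inv_self] at h
  exact h.symm

/-- Half of a subgroup of `C(z)` is inner. -/
theorem card_inner_half [Finite G] {X : Subgroup G} (hX : X ≤ S.C) :
    ((∀ x ∈ X, x ∈ S.H0) ∧ Nat.card ↥(X ⊓ S.H0) = Nat.card X) ∨
      2 * Nat.card ↥(X ⊓ S.H0) = Nat.card X := by
  by_cases h : ∀ x ∈ X, x ∈ S.H0
  · exact Or.inl ⟨h, by rw [inf_eq_left.2 h]⟩
  · push Not at h
    obtain ⟨a, ha, haH⟩ := h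
    right
    have hidx : (S.H0.subgroupOf X).index = 2 := by
      rw [Subgroup.index_eq_two_iff]
      refine ⟨⟨a, ha⟩, fun b => ?_⟩
      simp only [Subgroup.mem_subgroupOf, Subgroup.coe_mul, S.mul_mem_H0_iff (hX b.2) (hX ha)]
      by_cases hb : (b : G) ∈ S.H0
      · exact Or.inr ⟨hb, fun h' => haH (h'.1 hb)⟩
      · exact Or.inl ⟨iff_of_false hb haH, hb⟩
    have h2 := (S.H0.subgroupOf X).index_mul_card
    rw [hidx] at h2
    rw [← h2]
    congr 1
    exact Nat.card_congr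
      { toFun := fun a => ⟨⟨(a : G), a.2.1⟩, a.2.2⟩
        invFun := fun a => ⟨((a : X) : G), (a : X).2, a.2⟩
        left_inv := fun _ => rfl
        right_inv := fun _ => rfl }

end AutShape

/-- A conjugate `g z g⁻¹ ≠ z` inside `Q`. -/
structure PairG {G : Type u} [Group G] (S : AutShape G) where
  /-- the conjugating element -/
  g : G
  mem : g * S.z * g⁻¹ ∈ S.Q
  ne : g * S.z * g⁻¹ ≠ S.z

namespace PairG

variable {G : Type u} [Group G] {S : AutShape G} (p : PairG S)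

/-- The conjugate. -/
def s : G := p.g * S.z * p.g⁻¹

/-- Its extraspecial subgroup. -/
def T : Subgroup G := S.Q.map (MulAut.conj p.g).toMonoidHom

theorem mem_T {x : G} : x ∈ p.T ↔ p.g⁻¹ * x * p.g ∈ S.Q := by
  constructor
  · rintro ⟨y, hy, rfl⟩
    simpa [mul_assoc] using hy
  · exact fun h => ⟨_, h, by simp [mul_assoc]⟩

theorem s_mem : p.s ∈ S.Q := p.mem

theorem s_sq : p.s * p.s = 1 := by
  rw [s, show p.g * S.z * p.g⁻¹ * (p.g * S.z * p.g⁻¹) = p.g * (S.z * S.z) * p.g⁻¹ by group,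
    S.sub.mul_self]
  group

theorem pG_s_ne : S.pG p.s ≠ 0 := fun e => by
  rcases (AutShape.pG_eq_zero p.s_mem).1 e with h | h
  · exact S.sub.ne_one (conj_eq_one_iff.mp h)
  · exact p.ne h

theorem conj_T {a x : G} (ha : a * p.s = p.s * a) (hx : x ∈ p.T) : a * x * a⁻¹ ∈ p.T := by
  rw [mem_T] at hx ⊢
  have hc : p.g⁻¹ * a * p.g * S.z = S.z * (p.g⁻¹ * a * p.g) := by
    calc p.g⁻¹ * a * p.g * S.z = p.g⁻¹ * (a * p.s) * p.g := by rw [s]; group
      _ = p.g⁻¹ * (p.s * a) * p.g := by rw [ha]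
      _ = _ := by rw [s]; group
  have h := S.sub.conj_mem hc hx
  convert h using 1
  group

variable [Finite G]

theorem data : PairData S.Q p.T S.z p.s :=
  pairData_of_mem S.sub (by rw [S.card_Q]; norm_num) p.mem p.ne

theorem z_mem_inf : S.z ∈ S.Q ⊓ p.T := ⟨S.sub.z_mem, p.data.z_mem⟩

theorem s_mem_inf : p.s ∈ S.Q ⊓ p.T := ⟨p.s_mem, p.data.subP.z_mem⟩

/-- The image of `Q ∩ T`. -/
def Eb : AddSubgroup S.Vec where
  carrier := {v | ∃ x ∈ S.Q ⊓ p.T, S.pG x = v}
  zero_mem' := ⟨1, one_mem _, AutShape.pG_one⟩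
  add_mem' := by
    rintro _ _ ⟨x, hx, rfl⟩ ⟨y, hy, rfl⟩
    exact ⟨x * y, mul_mem hx hy, AutShape.pG_mul hx.1 hy.1⟩
  neg_mem' := by
    rintro _ ⟨x, hx, rfl⟩
    exact ⟨x⁻¹, inv_mem hx, by rw [AutShape.pG_inv hx.1, Shape.neg_eq']⟩

omit [Finite G] in
theorem s_mem_Eb' (h : p.s ∈ S.Q ⊓ p.T) : S.pG p.s ∈ p.Eb := ⟨p.s, h, rfl⟩

theorem s_mem_Eb : S.pG p.s ∈ p.Eb := ⟨p.s, p.s_mem_inf, rfl⟩

theorem B_Eb {v w : S.Vec} (hv : v ∈ p.Eb) (hw : w ∈ p.Eb) : S.S0.B v w = 0 := by
  obtain ⟨x, hx, rfl⟩ := hv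
  obtain ⟨y, hy, rfl⟩ := hw
  obtain ⟨⟨hc⟩⟩ := p.data.isElementaryAbelian_inf.1
  exact (AutShape.B_pG hx.1 hy.1).mpr (congrArg Subtype.val (hc ⟨x, hx⟩ ⟨y, hy⟩))

theorem q_Eb {v : S.Vec} (hv : v ∈ p.Eb) : S.S0.q v = 0 := by
  obtain ⟨x, hx, rfl⟩ := hv
  refine (AutShape.q_pG hx.1).2 ?_
  rw [← sq]
  exact p.data.isElementaryAbelian_inf.2 x hx

theorem card_Eb_le : Nat.card p.Eb ≤ 16 :=
  Shape.card_isotropic_le (S := S.S0) _ fun _ hv _ hw => p.B_Eb hv hw

/-- The image of the inner part of `T ∩ C(z)`. -/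
noncomputable def Bg : Subgroup P := (p.T.subgroupOf S.H0).map S.inn

omit [Finite G] in
theorem mem_Bg {σ : P} : σ ∈ p.Bg ↔ ∃ x : ↥S.H0, (x : G) ∈ p.T ∧ S.inn x = σ := Iff.rfl

theorem Bg_comm : ∀ σ ∈ p.Bg, ∀ τ ∈ p.Bg, σ * τ = τ * σ := by
  intro σ hσ τ hτ
  obtain ⟨m, hm, rfl⟩ := p.mem_Bg.mp hσ
  obtain ⟨n, hn, rfl⟩ := p.mem_Bg.mp hτ
  have h : S.inn (m * n * m⁻¹ * n⁻¹) = 1 := (S.inn_eq_one _).2 <| by
    show (m : G) * n * (m : G)⁻¹ * (n : G)⁻¹ ∈ S.Q
    rcases p.data.subP.comm_eq hm hn with e | e <;> rw [e]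
    · exact one_mem _
    · exact p.s_mem
  rw [map_mul, map_mul, map_mul, map_inv, map_inv] at h
  exact mul_inv_eq_iff_eq_mul.mp (mul_inv_eq_one.mp h)

theorem Bg_sq : ∀ σ ∈ p.Bg, σ * σ = 1 := by
  intro σ hσ
  obtain ⟨m, hm, rfl⟩ := p.mem_Bg.mp hσ
  rw [← map_mul, S.inn_eq_one]
  show (m : G) * m ∈ S.Q
  rcases p.data.subP.sq_eq hm with e | e <;> rw [e]
  · exact one_mem _
  · exact p.s_mem

theorem Bg_fix {σ : P} (hσ : σ ∈ p.Bg) : S.S0.act σ (S.pG p.s) = S.pG p.s := by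
  obtain ⟨m, hm, rfl⟩ := p.mem_Bg.mp hσ
  rw [show m = ⟨(m : G), m.2⟩ from rfl, ← AutShape.cact_inn m.2, AutShape.cact_pG _ p.s_mem]
  congr 1
  exact mul_inv_eq_iff_eq_mul.mpr (p.data.subP.z_comm hm)

/-- An element fixing `s̄` is induced by an inner element centralizing `s`. -/
theorem exists_lift {σ : P} (h : S.S0.act σ (S.pG p.s) = S.pG p.s) :
    ∃ m : ↥S.H0, S.inn m = σ ∧ (m : G) * p.s = p.s * m := by
  obtain ⟨m, rfl⟩ := S.inn_surj σ
  rw [show m = ⟨(m : G), m.2⟩ from rfl, ← AutShape.cact_inn m.2, AutShape.cact_pG _ p.s_mem] at h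
  rcases (AutShape.pG_eq_iff (S.conj_mem (S.H0_le m.2) p.s_mem) p.s_mem).1 h with e | e
  · exact ⟨m, rfl, mul_inv_eq_iff_eq_mul.mp e⟩
  · obtain ⟨q, hq, hqs⟩ := S.sub.exists_not_commute p.data.subP.ne_one p.ne
    refine ⟨⟨q, S.Q_le_H0 hq⟩ * m, by rw [map_mul, (S.inn_eq_one _).mpr hq, one_mul], ?_⟩
    refine mul_inv_eq_iff_eq_mul.mp ?_
    show q * (m : G) * p.s * (q * (m : G))⁻¹ = p.s
    rw [show q * (m : G) * p.s * (q * (m : G))⁻¹ = q * ((m : G) * p.s * (m : G)⁻¹) * q⁻¹ by group, e,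
      show q * (S.z * p.s) * q⁻¹ = (q * S.z) * p.s * q⁻¹ by group, S.sub.z_comm hq,
      show S.z * q * p.s * q⁻¹ = S.z * (q * p.s * q⁻¹) by group,
      S.sub.conj_of_not_commute hq p.s_mem hqs, ← mul_assoc, S.sub.mul_self, one_mul]

theorem Eb_act {σ : P} (hσ : S.S0.act σ (S.pG p.s) = S.pG p.s) {v : S.Vec} (hv : v ∈ p.Eb) :
    S.S0.act σ v ∈ p.Eb := by
  obtain ⟨n, rfl, hns⟩ := p.exists_lift hσ
  obtain ⟨x, hx, rfl⟩ := hv
  rw [show n = ⟨(n : G), n.2⟩ from rfl, ← AutShape.cact_inn n.2, AutShape.cact_pG _ hx.1]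
  exact ⟨_, ⟨S.conj_mem (S.H0_le n.2) hx.1, p.conj_T hns hx.2⟩, rfl⟩

theorem Bg_conj {σ τ : P} (hσ : S.S0.act σ (S.pG p.s) = S.pG p.s) (hτ : τ ∈ p.Bg) :
    σ * τ * σ⁻¹ ∈ p.Bg := by
  obtain ⟨n, rfl, hns⟩ := p.exists_lift hσ
  obtain ⟨m, hm, rfl⟩ := p.mem_Bg.mp hτ
  exact ⟨n * m * n⁻¹, p.conj_T hns hm, by rw [map_mul, map_mul, map_inv]⟩

theorem card_inf : Nat.card ↥(S.Q ⊓ p.T) = 2 * Nat.card p.Eb := by
  have hmem : ∀ v : p.Eb, ∃ x : ↥(S.Q ⊓ p.T), S.pG (x : G) = v := fun v => by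
    obtain ⟨x, hx, e⟩ := v.2
    exact ⟨⟨x, hx⟩, e⟩
  choose r hr using hmem
  have hb : Function.Bijective fun q : Bool × p.Eb =>
      (⟨(if q.1 then S.z else 1) * (r q.2 : G), mul_mem (by split <;>
        first | exact p.z_mem_inf | exact one_mem _) (r q.2).2⟩ : ↥(S.Q ⊓ p.T)) := by
    constructor
    · rintro ⟨a, v⟩ ⟨b, w⟩ e
      have e1 := congrArg Subtype.val e
      have e2 := congrArg S.pG e1
      simp only at e1 e2
      rw [AutShape.pG_mul (by split <;> simp [S.sub.z_mem, one_mem]) (r v).2.1,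
        AutShape.pG_mul (by split <;> simp [S.sub.z_mem, one_mem]) (r w).2.1, hr, hr] at e2
      have hvw : v = w := Subtype.ext (by revert e2; split <;> split <;> simp)
      subst hvw
      have e3 := mul_right_cancel e1
      cases a <;> cases b <;> simp at e3 ⊢
      · exact S.sub.ne_one e3.symm
      · exact S.sub.ne_one e3
    · intro x
      obtain ⟨v, hv⟩ : ∃ v : p.Eb, (v : S.Vec) = S.pG (x : G) := ⟨⟨_, x, x.2, rfl⟩, rfl⟩
      rcases (AutShape.pG_eq_iff x.2.1 (r v).2.1).mp (hv.symm.trans (hr v).symm) with e | e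
      · exact ⟨(false, v), Subtype.ext (by simp [e])⟩
      · exact ⟨(true, v), Subtype.ext (by simp [e])⟩
  rw [← Nat.card_eq_of_bijective _ hb, Nat.card_prod]
  simp

theorem card_T_inf_C : Nat.card ↥(p.T ⊓ S.C) = 256 := by
  have hP : Nat.card p.T = 512 := by
    rw [T, Subgroup.card_map_of_injective (MulAut.conj p.g).injective, S.card_Q]
  obtain ⟨a, ha, haz⟩ := p.data.subP.exists_not_commute S.sub.ne_one p.ne.symm
  have hidx : (S.C.subgroupOf p.T).index = 2 := by
    rw [Subgroup.index_eq_two_iff]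
    refine ⟨⟨a, ha⟩, fun b => ?_⟩
    simp only [Subgroup.mem_subgroupOf, Subgroup.coe_mul, AutShape.C,
      Subgroup.mem_centralizer_singleton_iff]
    by_cases hb : (b : G) * S.z = S.z * b
    · refine Or.inr ⟨hb, fun h => haz ?_⟩
      have h1 := (Commute.inv_left (hb : Commute (b : G) S.z)).mul_left (h : Commute ((b : G) * a) S.z)
      simpa using h1.eq
    · refine Or.inl ⟨?_, hb⟩
      have hb' : (b : G)⁻¹ * S.z ≠ S.z * (b : G)⁻¹ := fun h => hb (by
        simpa using (Commute.inv_left (h : Commute (b : G)⁻¹ S.z)).eq)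
      have := p.data.subP.inv_mul_commute ha (p.T.inv_mem b.2) p.data.z_mem haz hb'
      simpa using this
  have h2 := (S.C.subgroupOf p.T).index_mul_card
  rw [hidx, hP] at h2
  have h3 : Nat.card ↥(p.T ⊓ S.C) = Nat.card ↥(S.C.subgroupOf p.T) := Nat.card_congr
    { toFun := fun b : ↥(p.T ⊓ S.C) => (⟨⟨(b : G), b.2.1⟩, b.2.2⟩ : ↥(S.C.subgroupOf p.T))
      invFun := fun b => ⟨((b : p.T) : G), (b : p.T).2, b.2⟩
      left_inv := fun _ => rfl
      right_inv := fun _ => rfl }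
  omega

theorem card_mul : Nat.card p.Bg * (2 * Nat.card p.Eb) = Nat.card ↥(p.T ⊓ S.C ⊓ S.H0) := by
  set P0 := p.T.subgroupOf S.H0
  set f : ↥P0 →* P := S.inn.comp P0.subtype
  have hrange : f.range = p.Bg := by
    rw [MonoidHom.range_comp, Subgroup.range_subtype]
    rfl
  have hker : Nat.card f.ker = Nat.card ↥(S.Q ⊓ p.T) := Nat.card_congr
    { toFun := fun a => ⟨((a : P0) : ↥S.H0), (S.inn_eq_one _).mp (MonoidHom.mem_ker.mp a.2), (a : P0).2⟩
      invFun := fun x => ⟨⟨⟨x, S.Q_le_H0 x.2.1⟩, x.2.2⟩,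
        MonoidHom.mem_ker.mpr ((S.inn_eq_one _).mpr x.2.1)⟩
      left_inv := fun _ => rfl
      right_inv := fun _ => rfl }
  have h0 : Nat.card P0 = Nat.card ↥(p.T ⊓ S.C ⊓ S.H0) := Nat.card_congr
    { toFun := fun a => ⟨((a : ↥S.H0) : G), ⟨a.2, S.H0_le (a : ↥S.H0).2⟩, (a : ↥S.H0).2⟩
      invFun := fun x => ⟨⟨x, x.2.2⟩, x.2.1.1⟩
      left_inv := fun _ => rfl
      right_inv := fun _ => rfl }
  rw [← h0, Subgroup.card_eq_card_quotient_mul_card_subgroup f.ker, hker, ← hrange,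
    Nat.card_congr (QuotientGroup.quotientKerEquivRange f).toEquiv, p.card_inf]

theorem card_ge : 64 ≤ Nat.card p.Bg * Nat.card p.Eb := by
  have h1 := p.card_mul
  have h2 := p.card_T_inf_C
  rcases AutShape.card_inner_half (S := S) (X := p.T ⊓ S.C) inf_le_right with ⟨-, h⟩ | h <;> nlinarith

theorem Bg_le : Nat.card p.Bg ≤ 16 := card_elementary_le p.Bg_comm p.Bg_sq

/-- Conjugating a pair by an element of `C(z)`. -/
def conj (m : ↥S.C) : PairG S where
  g := (m : G) * p.g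
  mem := by
    rw [show (m : G) * p.g * S.z * ((m : G) * p.g)⁻¹ = (m : G) * p.s * (m : G)⁻¹ by rw [s]; group]
    exact S.conj_mem m.2 p.mem
  ne := by
    intro e
    apply p.ne
    have e' : (m : G) * p.s * (m : G)⁻¹ = (m : G) * S.z * (m : G)⁻¹ := by
      refine Eq.trans ?_ (e.trans (mul_inv_eq_iff_eq_mul.mpr (S.comm_C m.2)).symm)
      simp [s, mul_assoc]
    exact mul_left_cancel (mul_right_cancel e')

omit [Finite G] in
theorem conj_s (m : ↥S.C) : (p.conj m).s = (m : G) * p.s * (m : G)⁻¹ := by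
  simp [conj, s, mul_assoc]

variable (F : Frame S.S0)

/-- Inside the singular subspace only the remaining vectors occur. -/
theorem mem_kept {i : ℕ} (hi : i < (singStb F.K).length)
    (hs : S.pG p.s = psi F.e (repAt F.K i)) {u : ℕ} (hu : u < 256) (hmem : psi F.e u ∈ p.Eb) :
    u ∈ ((singKept F.K).getD i (0, [])).2 := by
  have hrep : repAt F.K i < 256 := rep_chk F.K F.K_mem i hi
  have hq : qF F.K.c u = 0 := by rw [← F.q_psi u hu]; exact p.q_Eb hmem
  have hb : bF u (repAt F.K i) = 0 := by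
    rw [← F.B_psi hu hrep, ← hs]
    exact p.B_Eb hmem p.s_mem_Eb
  have hc := List.all_eq_true.1 (cover_chk F.K F.K_mem i hi) u (List.mem_range.2 hu)
  rw [decide_eq_true (⟨hq, hb⟩ : qF F.K.c u = 0 ∧ bF u (repAt F.K i) = 0)] at hc
  simp only [Bool.not_true, Bool.false_or, Bool.or_eq_true, List.contains_iff_mem] at hc
  refine hc.resolve_right fun hw => ?_
  obtain ⟨e, he, rfl⟩ := List.mem_map.1 hw
  have hst := (orb_chk F.K F.K_mem).2.2 i hi
  have hlt := fun l => stWord_lt (fun w hw k hk => (hst w hw).2 k hk) (K := F.K) (i := i) l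
  have hEb : ∀ l, psi F.e (F.K.ev (stWord F.K i l) e.1) ∈ p.Eb := by
    intro l
    rw [← F.act_psi (hlt l)]
    refine p.Eb_act ?_ hmem
    rw [hs]
    exact wa_selW (S := S.S0) (fun w hw => by rw [wa, F.act_psi (hst w hw).2, (hst w hw).1]) l
  have h0 := p.B_Eb (hEb e.2.1) (hEb e.2.2)
  rw [F.B_psi (F.ev_lt _ hu) (F.ev_lt _ hu), wit_chk F.K F.K_mem i hi e he] at h0
  exact one_ne_zero h0

/-- An element of `T ∩ C(z)` moves a given element of `Q ∩ T` by `s`. -/
theorem exists_mover {x : G} (hx : x ∈ S.Q ⊓ p.T) (h0 : S.pG x ≠ 0) (hs : S.pG x ≠ S.pG p.s) :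
    ∃ j, ∃ hj : j ∈ S.C, j ∈ p.T ∧ S.cact ⟨j, hj⟩ (S.pG x) = S.pG p.s + S.pG x := by
  have hsub' := p.data.subP
  obtain ⟨j, hj, hjz, hjx⟩ : ∃ j ∈ p.T, j * S.z = S.z * j ∧ j * x ≠ x * j := by
    by_contra! h
    rcases hsub'.mem_double_centralizer p.data.z_mem S.sub.ne_one p.ne.symm hx.2 h with r | r | r | r
    · exact h0 (by rw [r, AutShape.pG_one])
    · exact hs (by rw [r])
    · exact h0 (by rw [r, AutShape.pG_z])
    · exact hs (by rw [r, AutShape.pG_mul p.s_mem S.sub.z_mem, AutShape.pG_z, add_zero])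
  refine ⟨j, S.mem_C hjz, hj, ?_⟩
  rw [AutShape.cact_pG _ hx.1]
  show S.pG (j * x * j⁻¹) = _
  rw [hsub'.conj_of_not_commute hj hx.2 hjx]
  exact AutShape.pG_mul p.s_mem hx.1

omit [Finite G] in
theorem exists_index (v : p.Eb) : ∃ u < 256, psi F.e u = (v : S.Vec) := F.surj _

/-- Contradiction on the two modules with a fixed plane. -/
theorem false_of_repB (hK : F.K ∈ [kP, kM]) {i : ℕ} (hi : i < (singStb F.K).length)
    (hs : S.pG p.s = psi F.e (repAt F.K i)) : False := by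
  classical
  have hKm : F.K ∈ [kA, kP, kM] := F.K_mem
  have hrep : repAt F.K i < 256 := rep_chk F.K hKm i hi
  choose f hf hfv using p.exists_index F
  have hk := fun v => p.mem_kept F hi hs (hf v) (by rw [hfv v]; exact v.2)
  by_cases hsmall : ∀ v, f v = 0 ∨ f v = repAt F.K i
  · have hle : Nat.card p.Eb ≤ 2 := by
      refine (Nat.card_le_card_of_injective
        (fun v => (⟨f v, by rcases hsmall v with e | e <;> simp [e]⟩ : ({0, repAt F.K i} : Finset ℕ)))
        fun v w e => Subtype.ext (by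
          rw [← hfv v, ← hfv w, show f v = f w from congrArg Subtype.val e])).trans ?_
      rw [Nat.card_eq_finsetCard]
      exact Finset.card_le_two
    have := p.card_ge
    have := p.Bg_le
    nlinarith
  push Not at hsmall
  obtain ⟨v, hv0, hvs⟩ := hsmall
  obtain ⟨d, hd, hud, k, hk6, hmove⟩ :=
    ((keptB_chk F.K hK i hi (f v) (hk v)).resolve_left hv0).resolve_left hvs
  have hd256 : d < 256 := by
    simp only [List.mem_cons, List.not_mem_nil, or_false] at hd
    omega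
  have hdEb : psi F.e d ∈ p.Eb := by
    rcases hud with e | e
    · rw [← e, hfv v]; exact v.2
    · have hd' : d = repAt F.K i ^^^ f v := by rw [e, ← Nat.xor_assoc, Nat.xor_self, Nat.zero_xor]
      rw [hd', psi_xor, hfv v, ← hs]
      exact add_mem p.s_mem_Eb v.2
  have hd4 : d ∈ [0, 64, 128, 192] := List.mem_cons_of_mem _ hd
  have hfixd : ∀ k < 6, app (F.K.mats.getD k []) d = d := (plane_fixed_chk F.K hK).2 d hd4
  have hall : ∀ σ : P, S.S0.act σ (psi F.e d) = psi F.e d := by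
    intro σ
    obtain ⟨w, hw, -, hev⟩ := F.exists_ev σ
    rw [hev]
    congr 1
    clear hev
    induction w with
    | nil => rfl
    | cons k w ih =>
      show app (F.K.mats.getD k []) (F.K.ev w d) = d
      rw [ih fun j hj => hw j (List.mem_cons_of_mem _ hj), hfixd k (hw k List.mem_cons_self)]
  obtain ⟨x, hx, hxd⟩ := hdEb
  have hd0 : d ≠ 0 := by
    simp only [List.mem_cons, List.not_mem_nil, or_false] at hd
    omega
  have h0 : S.pG x ≠ 0 := fun e => hd0 (F.inj d hd256 (hxd ▸ e))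
  have hne : S.pG x ≠ S.pG p.s := fun e => by
    rw [hxd, hs] at e
    rw [← F.heq hd256 hrep e, Nat.xor_self] at hmove
    exact hmove ((plane_fixed_chk F.K hK).2 0 (by simp) k hk6)
  obtain ⟨j, hj, -, hje⟩ := p.exists_mover hx h0 hne
  have hfix := AutShape.fixed_cact (fun σ => hxd ▸ hall σ) ⟨j, hj⟩ (wP [k])
  rw [hje, hxd, hs, ← psi_xor, F.act_psi (by simpa using hk6)] at hfix
  exact hmove (F.heq (F.ev_lt [k] (Nat.xor_lt_two_pow (n := 8) hrep hd256))
    (Nat.xor_lt_two_pow (n := 8) hrep hd256) hfix)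

/-! ### The natural module -/

omit [Finite G] in
theorem ev_of_ak {w w' : List ℕ} (h : ak w = ak w') {n : ℕ} (hn : n < 256) :
    kA.ev w n = kA.ev w' n := by
  refine vec_induction (fun n => kA.ev w n = kA.ev w' n) ?_ (fun a b ha hb => ?_) (fun j hj => ?_) hn
  · have h0 : ∀ u : List ℕ, kA.ev u 0 = 0 := fun u => by
      have := mev_xor kA.mats u 0 0
      simp only [Nat.xor_self] at this
      exact this
    rw [h0, h0]
  · show mev kA.mats w (a ^^^ b) = mev kA.mats w' (a ^^^ b)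
    rw [mev_xor, mev_xor]
    exact congrArg₂ (· ^^^ ·) ha hb
  · have := congrArg (fun l : List ℕ => l.getD j 0) h
    simpa [ak, hj] using this

omit [Finite G] in
theorem wP_of_ak (hK : F.K = kA) {w w' : List ℕ} (hw : ∀ k ∈ w, k < 6) (hw' : ∀ k ∈ w', k < 6)
    (h : ak w = ak w') : wP w = wP w' := by
  refine inv_mul_eq_one.1 (Shape.eq_one_of_act (S := S.S0) fun v => ?_)
  obtain ⟨n, hn, rfl⟩ := F.surj v
  rw [Shape.act_mul, F.act_psi hw', hK, ← ev_of_ak h hn, ← hK, ← F.act_psi hw, Shape.act_inv_act]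

omit [Finite G] in
theorem ak_of_wP (hK : F.K = kA) {w w' : List ℕ} (hw : ∀ k ∈ w, k < 6) (hw' : ∀ k ∈ w', k < 6)
    (h : wP w = wP w') : ak w = ak w' := by
  refine List.map_congr_left fun j hj => ?_
  have hj' : 2 ^ j < 256 :=
    lt_of_lt_of_le (Nat.pow_lt_pow_right (by norm_num) (List.mem_range.1 hj)) (le_refl (2 ^ 8))
  rw [← hK]
  refine F.heq (F.ev_lt _ hj') (F.ev_lt _ hj') ?_
  rw [← F.act_psi hw, ← F.act_psi hw', h]

omit [Finite G] in
/-- The stabiliser of the representative has the listed 192 elements. -/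
theorem stab_complete (hK : F.K = kA) {σ : P} (hσ : S.S0.act σ (psi F.e 5) = psi F.e 5) :
    ∃ w ∈ stabW, wP w = σ := by
  classical
  let St : Subgroup P :=
    { carrier := {σ | S.S0.act σ (psi F.e 5) = psi F.e 5}
      one_mem' := Shape.act_one _
      mul_mem' := fun {a b} (ha : S.S0.act a _ = _) (hb : S.S0.act b _ = _) => by
        show S.S0.act (a * b) _ = _
        rw [Shape.act_mul, hb, ha]
      inv_mem' := fun {a} (ha : S.S0.act a _ = _) => by
        show S.S0.act a⁻¹ _ = _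
        conv_lhs => rw [← ha]
        exact Shape.act_inv_act a _ }
  obtain ⟨hW, hlen, hnd⟩ := stabW_chk
  obtain ⟨horb, hcov, -⟩ := orb_chk kA (by simp)
  set Lsing := (List.range 256).filter fun n => decide (n ≠ 0 ∧ qF kA.c n = 0)
  have hrepA : ∀ e ∈ singOrb kA, e.1 = 5 := fun e he => by
    obtain ⟨-, -, -, i, hi, hrep⟩ := horb e he
    obtain ⟨hlen1, hrep5, -⟩ := kept_chk.2
    obtain rfl : i = 0 := by rw [hlen1] at hi; omega
    rw [← hrep, hrep5]
  have hex : ∀ n ∈ Lsing, ∃ e ∈ singOrb kA, e.2.1 = n := fun n hn => by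
    obtain ⟨hn1, hn2⟩ := List.mem_filter.1 hn
    obtain ⟨hn0, hnq⟩ := of_decide_eq_true hn2
    have hc := List.all_eq_true.1 hcov n hn1
    rw [decide_eq_false (show ¬ (n = 0 ∨ qF kA.c n = 1) from fun h => h.elim hn0 fun h' => by
      rw [hnq] at h'; exact zero_ne_one h')] at hc
    simp only [Bool.false_or, List.contains_iff_mem, List.mem_map] at hc
    exact hc
  choose e he hev using hex
  let Φ : {n // n ∈ Lsing.toFinset} × ↥St → P := fun x =>
    wP (e x.1.1 (List.mem_toFinset.1 x.1.2)).2.2 * (x.2 : P)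
  have hΦ : Function.Injective Φ := by
    rintro ⟨⟨n, hn⟩, a⟩ ⟨⟨m, hm⟩, b⟩ h
    have hval : ∀ (n : ℕ) (hn : n ∈ Lsing) (a : ↥St),
        S.S0.act (wP (e n hn).2.2 * (a : P)) (psi F.e 5) = psi F.e n := fun n hn a => by
      obtain ⟨h1, h2, h3, -⟩ := horb _ (he n hn)
      rw [Shape.act_mul, show S.S0.act (a : P) _ = _ from a.2, F.act_psi h2, hK,
        ← hrepA _ (he n hn), h1, hev n hn]
    have hlt : ∀ n ∈ Lsing, n < 256 := fun n hn => List.mem_range.1 (List.mem_filter.1 hn).1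
    have hnm : n = m := F.heq (hlt n (List.mem_toFinset.1 hn)) (hlt m (List.mem_toFinset.1 hm)) (by
      rw [← hval n (List.mem_toFinset.1 hn) a, ← hval m (List.mem_toFinset.1 hm) b]
      exact congrArg (fun σ => S.S0.act σ (psi F.e 5)) h)
    subst hnm
    exact Prod.ext rfl (Subtype.ext (mul_left_cancel h))
  haveI : Finite P := Nat.finite_of_card_ne_zero (by rw [SpFourThree70.card_P]; norm_num)
  have h1 := Nat.card_le_card_of_injective Φ hΦ
  rw [Nat.card_prod, Nat.card_eq_finsetCard,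
    List.toFinset_card_of_nodup (List.nodup_range.filter _), sing_count_chk,
    SpFourThree70.card_P] at h1
  have hmem : ∀ x : {w // w ∈ stabW.toFinset}, wP x.1 ∈ St := fun x => by
    obtain ⟨hlt, h5⟩ := hW x.1 (List.mem_toFinset.1 x.2)
    show S.S0.act (wP x.1) _ = _
    rw [F.act_psi hlt, hK, h5]
  let Ψ : {w // w ∈ stabW.toFinset} → ↥St := fun x => ⟨wP x.1, hmem x⟩
  have hΨ : Function.Injective Ψ := fun x y h => Subtype.ext <| by
    have hak := ak_of_wP F hK (hW x.1 (List.mem_toFinset.1 x.2)).1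
      (hW y.1 (List.mem_toFinset.1 y.2)).1 (congrArg Subtype.val h)
    exact List.inj_on_of_nodup_map hnd (List.mem_toFinset.1 x.2) (List.mem_toFinset.1 y.2) hak
  have h2 : Nat.card ↥St ≤ Nat.card {w // w ∈ stabW.toFinset} := by
    rw [Nat.card_eq_finsetCard, List.toFinset_card_of_nodup (List.Nodup.of_map _ hnd), hlen]
    omega
  obtain ⟨x, hx⟩ := (hΨ.bijective_of_nat_card_le h2).2 ⟨σ, hσ⟩
  exact ⟨x.1, List.mem_toFinset.1 x.2, congrArg Subtype.val hx⟩

/-- An element of `B` other than one and the root element. -/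
theorem exists_word_Bg (hK : F.K = kA) (hs : S.pG p.s = psi F.e 5) {b : P} (hb : b ∈ p.Bg)
    (hb1 : b ≠ 1) : ∃ w ∈ normW, wP w = b := by
  have hfix := p.Bg_fix hb
  rw [hs] at hfix
  obtain ⟨w, hw, rfl⟩ := stab_complete F hK hfix
  have hlt := (stabW_chk.1 w hw).1
  have hinv : w ∈ invW := by
    refine List.mem_filter.2 ⟨hw, decide_eq_true ⟨?_, fun e => hb1 ?_⟩⟩
    · exact ak_of_wP F hK (fun k hk => (List.mem_append.1 hk).elim (hlt k) (hlt k)) (by simp)
        (by rw [wP_append, p.Bg_sq _ hb, wP_nil])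
    · exact (wP_of_ak F hK hlt (by simp) e).trans wP_nil
  refine ⟨w, List.mem_filter.2 ⟨hinv, List.all_eq_true.2 fun c hc => decide_eq_true ?_⟩, rfl⟩
  obtain ⟨hc5, hclt⟩ := conjW_chk c (by simp [conjW, hc])
  have hwinv : ∀ k ∈ winv c, k < 6 := winv_lt hclt
  have hcw : ∀ k ∈ c ++ w ++ winv c, k < 6 := by
    simp only [List.mem_append]
    rintro k ((hk | hk) | hk)
    exacts [hclt k hk, hlt k hk, hwinv k hk]
  have hconj : wP c * wP w * (wP c)⁻¹ ∈ p.Bg := p.Bg_conj (by rw [hs, F.act_psi hclt, hK, hc5]) hb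
  refine ak_of_wP F hK (fun k hk => (List.mem_append.1 hk).elim (hlt k) (hcw k))
    (fun k hk => (List.mem_append.1 hk).elim (hcw k) (hlt k)) ?_
  have e : wP (c ++ w ++ winv c) = wP c * wP w * (wP c)⁻¹ := by
    rw [wP_append, wP_append, wP_winv c hclt]
  rw [wP_append w, wP_append (c ++ w ++ winv c) w, e]
  exact p.Bg_comm _ hb _ hconj

/-- Contradiction on the natural module. -/
theorem false_of_repA (hK : F.K = kA) (hs : S.pG p.s = psi F.e 5) : False := by
  classical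
  obtain ⟨hlen1, hrep5, hspan⟩ := kept_chk.2
  have hi : 0 < (singStb F.K).length := by rw [hK, hlen1]; norm_num
  have hs' : S.pG p.s = psi F.e (repAt F.K 0) := by rw [hK, hrep5]; exact hs
  choose f hf hfv using p.exists_index F
  have hk := fun v => p.mem_kept F hi hs' (hf v) (by rw [hfv v]; exact v.2)
  rw [hK] at hk
  have hst : ∀ w ∈ stAt kA 0, kA.ev w 5 = 5 ∧ ∀ k ∈ w, k < 6 := fun w hw => by
    simpa [hrep5] using (orb_chk kA (by simp)).2.2 0 (by rw [hlen1]; norm_num) w hw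
  have horbit : ∀ {u : ℕ}, psi F.e u ∈ p.Eb → ∀ l, psi F.e (kA.ev (stWord kA 0 l) u) ∈ p.Eb := by
    intro u hu l
    have hlt := stWord_lt (fun w hw k hk => (hst w hw).2 k hk) (K := kA) (i := 0) l
    rw [← hK, ← F.act_psi (hK ▸ hlt)]
    refine p.Eb_act ?_ hu
    rw [hs, hK]
    exact wa_selW (S := S.S0) (fun w hw => by
      rw [wa, F.act_psi (hst w hw).2, hK, (hst w hw).1]) l
  have hBne : ∀ b ∈ p.Bg, b ≠ 1 → ∃ w ∈ normW, wP w = b := fun b hb h1 => p.exists_word_Bg F hK hs hb h1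
  have hnlt : ∀ w ∈ normW, ∀ k ∈ w, k < 6 := fun w hw =>
    (stabW_chk.1 w (List.mem_filter.1 (List.mem_filter.1 hw).1).1).1
  haveI : Finite P := Nat.finite_of_card_ne_zero (by rw [SpFourThree70.card_P]; norm_num)
  by_cases hv : ∀ v, f v ∈ [0, 5, 10, 15]
  · -- at most four vectors
    have hEb : Nat.card p.Eb ≤ 4 := by
      refine (Nat.card_le_card_of_injective
        (fun v => (⟨f v, by simpa using hv v⟩ : ({0, 5, 10, 15} : Finset ℕ)))
        fun v w e => Subtype.ext (by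
          rw [← hfv v, ← hfv w, show f v = f w from congrArg Subtype.val e])).trans ?_
      rw [Nat.card_eq_finsetCard]
      decide
    have hB : 16 ≤ Nat.card p.Bg := by
      have := p.card_ge
      nlinarith
    have hfin : (p.Bg : Set P).Finite := Set.toFinite _
    obtain ⟨b, hb, hb1, hbr⟩ : ∃ b ∈ p.Bg, b ≠ 1 ∧ b ≠ wP rWord := by
      by_contra! h
      have hsub : (p.Bg : Set P) ⊆ {1, wP rWord} := fun b hb => by
        by_cases h1 : b = 1
        exacts [Or.inl h1, Or.inr (h b hb h1)]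
      have h2 := Set.ncard_le_ncard hsub (Set.toFinite _)
      rw [← Nat.card_coe_set_eq] at h2
      change Nat.card p.Bg ≤ _ at h2
      have h3 : ({1, wP rWord} : Set P).ncard ≤ 2 := (Set.ncard_insert_le _ _).trans (by simp)
      omega
    obtain ⟨w, hw, rfl⟩ := hBne b hb hb1
    have hr : ∀ k ∈ rWord, k < 6 := by decide
    have hlenlt := (norm_chk w hw).resolve_left fun e => hbr (wP_of_ak F hK (hnlt w hw) hr e)
    set L := normW.filter fun v => decide (ak (w ++ v) = ak (v ++ w))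
    have hsub : (p.Bg : Set P) \ {1} ⊆ ↑((L.map wP).toFinset) := by
      rintro y ⟨hy, hy1⟩
      obtain ⟨v, hv', rfl⟩ := hBne y hy (by simpa using hy1)
      simp only [Finset.mem_coe, List.mem_toFinset, List.mem_map]
      refine ⟨v, List.mem_filter.2 ⟨hv', decide_eq_true ?_⟩, rfl⟩
      exact ak_of_wP F hK (fun k hk => (List.mem_append.1 hk).elim (hnlt w hw k) (hnlt v hv' k))
        (fun k hk => (List.mem_append.1 hk).elim (hnlt v hv' k) (hnlt w hw k))
        (by rw [wP_append, wP_append, p.Bg_comm _ hb _ hy])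
    have h2 := Set.ncard_le_ncard hsub (Finset.finite_toSet _)
    rw [Set.ncard_coe_finset, Set.ncard_sdiff_singleton_of_mem (one_mem p.Bg),
      ← Nat.card_coe_set_eq] at h2
    change Nat.card p.Bg - 1 ≤ _ at h2
    have h3 := List.toFinset_card_le (L.map wP)
    rw [List.length_map] at h3
    omega
  push Not at hv
  obtain ⟨v, hv⟩ := hv
  simp only [List.mem_cons, List.not_mem_nil, or_false, not_or] at hv
  -- `ω s̄` lies in `Eb`
  obtain ⟨e, he, heu, hfold⟩ : ∃ e ∈ spanA, e.1 = f v ∧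
      ((e.2.1.map fun l => kA.ev (stWord kA 0 l) (f v)).foldl Nat.xor 0 =
        bif Nat.beq e.2.2 0 then 10 else 15) := by
    rcases hspan _ (hk v) with h | h | h | h | h
    exacts [absurd h hv.1, absurd h hv.2.1, absurd h hv.2.2.1, absurd h hv.2.2.2, h]
  have hfold_mem : ∀ (l : List ℕ) (acc : ℕ), psi F.e acc ∈ p.Eb → (∀ a ∈ l, psi F.e a ∈ p.Eb) →
      psi F.e (l.foldl Nat.xor acc) ∈ p.Eb := by
    intro l
    induction l with
    | nil => exact fun _ h _ => h
    | cons a l ih =>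
      intro acc h hl
      refine ih _ ?_ fun b hb => hl b (List.mem_cons_of_mem _ hb)
      show psi F.e (acc ^^^ a) ∈ p.Eb
      rw [psi_xor]
      exact add_mem h (hl a List.mem_cons_self)
  have h5 : psi F.e 5 ∈ p.Eb := hs ▸ p.s_mem_Eb
  have hfvm : psi F.e (f v) ∈ p.Eb := by rw [hfv v]; exact v.2
  have h10 : psi F.e 10 ∈ p.Eb := by
    have hsum := hfold_mem (e.2.1.map fun l => kA.ev (stWord kA 0 l) (f v)) 0
      (by rw [psi_zero]; exact zero_mem _) (by
        intro a ha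
        obtain ⟨l, -, rfl⟩ := List.mem_map.1 ha
        exact horbit hfvm l)
    rw [hfold] at hsum
    cases hb : Nat.beq e.2.2 0 <;> rw [hb] at hsum <;> simp only [cond_false, cond_true] at hsum
    · rw [small_chk.2.2, psi_xor]
      exact add_mem h5 hsum
    · exact hsum
  -- sixteen vectors
  obtain ⟨l, -, h16⟩ :=
    ((((keptA_chk _ (hk v)).resolve_left hv.1).resolve_left hv.2.1).resolve_left hv.2.2.1).resolve_left
      hv.2.2.2
  have hspanEb : ∀ n ∈ spanList [5, 10, f v, kA.ev (stWord kA 0 l) (f v)], n < 256 ∧ psi F.e n ∈ p.Eb := by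
    refine spanList_induction (fun n => n < 256 ∧ psi F.e n ∈ p.Eb)
      ⟨by norm_num, by rw [psi_zero]; exact zero_mem _⟩
      (fun a b ha hb => ⟨Nat.xor_lt_two_pow (n := 8) ha.1 hb.1, by
        rw [psi_xor]; exact add_mem ha.2 hb.2⟩) _ ?_
    intro n hn
    simp only [List.mem_cons, List.not_mem_nil, or_false] at hn
    rcases hn with rfl | rfl | rfl | rfl
    exacts [⟨by norm_num, h5⟩, ⟨by norm_num, h10⟩, ⟨hf v, hfvm⟩,
      ⟨mev_lt (mats_chk _ (by simp [kA])) _ (hf v), horbit hfvm l⟩]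
  have hEb16 : 16 ≤ Nat.card p.Eb := by
    haveI : Finite p.Eb := by
      haveI : Finite S.Vec := Nat.finite_of_card_ne_zero (by rw [Shape.card_vec]; norm_num)
      infer_instance
    set L := spanList [5, 10, f v, kA.ev (stWord kA 0 l) (f v)] with hL
    have hnd : L.Nodup := by rw [hL]; exact List.nodup_dedup _
    let g : {n // n ∈ L.toFinset} → p.Eb := fun n =>
      ⟨psi F.e n.1, (hspanEb n.1 (List.mem_toFinset.1 n.2)).2⟩
    have hg : Function.Injective g := fun a b e => Subtype.ext <|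
      F.heq (hspanEb a.1 (List.mem_toFinset.1 a.2)).1 (hspanEb b.1 (List.mem_toFinset.1 b.2)).1
        (congrArg Subtype.val e)
    have := Nat.card_le_card_of_injective g hg
    rwa [Nat.card_eq_finsetCard, List.toFinset_card_of_nodup hnd, h16] at this
  -- the element moving `ω s̄` is outer
  obtain ⟨x, hx, hx10⟩ := h10
  have h0 : S.pG x ≠ 0 := fun e => by
    rw [hx10] at e
    exact absurd (F.inj 10 (by norm_num) e) (by norm_num)
  have hne : S.pG x ≠ S.pG p.s := fun e => by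
    rw [hx10, hs] at e
    exact absurd (F.heq (by norm_num) (by norm_num) e) (by norm_num)
  obtain ⟨j, hj, hjT, hje⟩ := p.exists_mover hx h0 hne
  have hjH : j ∉ S.H0 := by
    intro hjH
    have hσs : S.S0.act (S.inn ⟨j, hjH⟩) (S.pG p.s) = S.pG p.s :=
      p.Bg_fix (p.mem_Bg.2 ⟨⟨j, hjH⟩, hjT, rfl⟩)
    rw [show (⟨j, hj⟩ : ↥S.C) = ⟨j, S.H0_le hjH⟩ from rfl, AutShape.cact_inn hjH, hx10, hs,
      ← psi_xor] at hje
    rw [hs] at hσs
    obtain ⟨w, hw, -, hev'⟩ := F.exists_ev (S.inn ⟨j, hjH⟩)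
    rw [hev', hK] at hσs hje
    have e5 := F.heq (mev_lt (mats_chk _ (by simp [kA])) w (by norm_num)) (by norm_num) hσs
    have e10 : kA.ev w 10 = 10 := by
      rw [← small_chk.1, ev_wMat w hw 5 (by norm_num)]
      exact congrArg (app wMat) e5
    rw [e10] at hje
    exact absurd (F.heq (by decide) (by decide) hje) (by decide)
  have hB4 : Nat.card p.Bg = 4 := by
    have h1 := p.card_mul
    have h2 := p.card_T_inf_C
    have h3 := p.card_Eb_le
    rcases AutShape.card_inner_half (S := S) (X := p.T ⊓ S.C) inf_le_right with ⟨h, -⟩ | h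
    · exact absurd (h j ⟨hjT, hj⟩) hjH
    · have : Nat.card p.Eb = 16 := le_antisymm h3 hEb16
      rw [this] at h1
      omega
  obtain ⟨b, hb, hb1, hbr⟩ : ∃ b ∈ p.Bg, b ≠ 1 ∧ b ≠ wP rWord := by
    by_contra! h
    have hsub : (p.Bg : Set P) ⊆ {1, wP rWord} := fun b hb => by
      by_cases h1 : b = 1
      exacts [Or.inl h1, Or.inr (h b hb h1)]
    have h2 := Set.ncard_le_ncard hsub (Set.toFinite _)
    rw [← Nat.card_coe_set_eq] at h2
    change Nat.card p.Bg ≤ _ at h2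
    have h3 : ({1, wP rWord} : Set P).ncard ≤ 2 := (Set.ncard_insert_le _ _).trans (by simp)
    omega
  obtain ⟨w, hw, rfl⟩ := hBne b hb hb1
  have hr : ∀ k ∈ rWord, k < 6 := by decide
  have h4 := (orbit_chk w (List.mem_filter.1 hw).1).resolve_left fun e =>
    hbr (wP_of_ak F hK (hnlt w hw) hr e)
  set C4 := (conjW.map fun c => ak (c ++ w ++ winv c)).dedup
  have hmem4 : ∀ A ∈ C4, ∃ y : {y : P // y ∈ (p.Bg : Set P) \ {1}},
      ∃ u : List ℕ, (∀ k ∈ u, k < 6) ∧ wP u = y.1 ∧ ak u = A := by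
    intro A hA
    obtain ⟨c, hc, rfl⟩ := List.mem_map.1 (List.mem_dedup.1 hA)
    obtain ⟨hc5, hclt⟩ := conjW_chk c hc
    have hy : wP c * wP w * (wP c)⁻¹ ∈ p.Bg := p.Bg_conj (by rw [hs, F.act_psi hclt, hK, hc5]) hb
    refine ⟨⟨_, hy, by simpa using fun e => hb1 e⟩, c ++ w ++ winv c, ?_, ?_, rfl⟩
    · intro k hk
      simp only [List.mem_append] at hk
      rcases hk with (hk | hk) | hk
      · exact hclt k hk
      · exact hnlt w hw k hk
      · exact winv_lt hclt k hk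
    · rw [wP_append, wP_append, wP_winv c hclt]
  choose y u hu huy huA using hmem4
  let g : {A // A ∈ C4.toFinset} → {y : P // y ∈ (p.Bg : Set P) \ {1}} := fun A =>
    y A.1 (List.mem_toFinset.1 A.2)
  have hg : Function.Injective g := fun A A' e => Subtype.ext <| by
    rw [← huA A.1 (List.mem_toFinset.1 A.2), ← huA A'.1 (List.mem_toFinset.1 A'.2)]
    exact ak_of_wP F hK (hu _ _) (hu _ _) (by
      rw [huy, huy]; exact congrArg Subtype.val e)
  have h5' := Nat.card_le_card_of_injective g hg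
  have hC4 : C4.Nodup := List.nodup_dedup _
  rw [Nat.card_eq_finsetCard, List.toFinset_card_of_nodup hC4] at h5'
  change _ ≤ Nat.card ↥((p.Bg : Set P) \ {1}) at h5'
  rw [Nat.card_coe_set_eq, Set.ncard_sdiff_singleton_of_mem (one_mem p.Bg), ← Nat.card_coe_set_eq] at h5'
  change _ ≤ Nat.card p.Bg - 1 at h5'
  omega

end PairG

namespace AutShape

variable {G : Type u} [Group G] {S : AutShape G} [Finite G]

/-- The involution is the only one of its conjugates in `J`. -/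
theorem eq_z_of_mem {g : G} (hg : g * S.z * g⁻¹ ∈ S.Q) : g * S.z * g⁻¹ = S.z := by
  obtain ⟨F⟩ := exists_frame S.S0
  by_contra hne
  let p : PairG S := ⟨g, hg, hne⟩
  obtain ⟨n, hn, hns⟩ := F.surj (S.pG p.s)
  have hq : qF F.K.c n = 0 := by
    rw [← F.q_psi n hn, hns]
    exact (q_pG p.s_mem).2 p.s_sq
  have hn0 : n ≠ 0 := fun h => p.pG_s_ne (by rw [← hns, h, psi_zero])
  obtain ⟨horb, hcov, -⟩ := orb_chk F.K F.K_mem
  have hc := List.all_eq_true.1 hcov n (List.mem_range.2 hn)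
  rw [decide_eq_false (show ¬ (n = 0 ∨ qF F.K.c n = 1) from fun h => h.elim hn0 fun h' => by
    rw [hq] at h'; exact zero_ne_one h')] at hc
  simp only [Bool.false_or, List.contains_iff_mem, List.mem_map] at hc
  obtain ⟨e, he, rfl⟩ := hc
  obtain ⟨hev, hw, hlt, i, hi, hrep⟩ := horb e he
  obtain ⟨⟨m, hm⟩, hmw⟩ := S.inn_surj (wP e.2.2)⁻¹
  have hs : S.pG (p.conj ⟨m, S.H0_le hm⟩).s = psi F.e (repAt F.K i) := by
    rw [p.conj_s, ← cact_pG ⟨m, S.H0_le hm⟩ p.s_mem, cact_inn hm, hmw, ← hns, ← hev, ← F.act_psi hw,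
      Shape.act_inv_act, hrep]
  rcases F.kind with h | h | h
  · obtain ⟨hlen1, hrep5, -⟩ := kept_chk.2
    obtain rfl : i = 0 := by rw [h, hlen1] at hi; omega
    rw [h, hrep5] at hs
    exact (p.conj ⟨m, S.H0_le hm⟩).false_of_repA F h hs
  · exact (p.conj ⟨m, S.H0_le hm⟩).false_of_repB F (by simp [h]) hi hs
  · exact (p.conj ⟨m, S.H0_le hm⟩).false_of_repB F (by simp [h]) hi hs

end AutShape

end CfsgLib.USixAut
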