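import Cfsg.Agent.USixAut.InJ

/-!
# A conjugate of `z` in `C(z)` outside `J`, automorphism group case

The fixed space `fixS` of an involution `t` on `J / Z(J)`, the image `imS` of `1 + t`, the centralizer
`CQ` of `t` in `Q`, and the elementary consequences of `z` being the only one of its conjugates in `J`.
-/

set_option autoImplicit false
set_option linter.style.haveILetI false

open CfsgLib.LargeExtraspecial CfsgLib.SpFourThree70

namespace CfsgLib.USixAut

open CfsgLib.USixRec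

universe u

namespace AutShape

variable {G : Type u} [Group G] (S : AutShape G)

/-- `1 + m` on the vector space. -/
noncomputable def dS (m : ↥S.C) : S.Vec →+ S.Vec := S.cact m + AddMonoidHom.id S.Vec

/-- The fixed space. -/
noncomputable def fixS (m : ↥S.C) : AddSubgroup S.Vec := (S.dS m).ker

/-- The image of `1 + m`. -/
noncomputable def imS (m : ↥S.C) : AddSubgroup S.Vec := (S.dS m).range

variable {S}

theorem dS_apply (m : ↥S.C) (v : S.Vec) : S.dS m v = S.cact m v + v := rfl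

theorem mem_fixS {m : ↥S.C} {v : S.Vec} : v ∈ S.fixS m ↔ S.cact m v = v := by
  rw [fixS, AddMonoidHom.mem_ker, dS_apply, add_eq_zero_iff_eq_neg, Shape.neg_eq']

theorem imS_le_fixS {m : ↥S.C} (hm : S.ρ (m * m) = 1) : S.imS m ≤ S.fixS m := by
  rintro _ ⟨v, rfl⟩
  rw [mem_fixS, dS_apply, map_add, ← cact_mul, cact_congr (n := 1) (by rw [hm, map_one]), cact_one,
    add_comm]

theorem B_dS {m : ↥S.C} (hm : S.ρ (m * m) = 1) (v w : S.Vec) :
    S.S0.B (S.dS m v) w = S.S0.B v (S.dS m w) := by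
  rw [dS_apply, dS_apply, Shape.B_add_left, Shape.B_add_right]
  congr 1
  rw [← cact_B m (S.cact m v) w, ← cact_mul, cact_congr (n := 1) (by rw [hm, map_one]), cact_one]

/-- A vector orthogonal to all of the image is fixed. -/
theorem fixed_of_orth {m : ↥S.C} (hm : S.ρ (m * m) = 1) {v : S.Vec}
    (h : ∀ w, S.S0.B v (S.dS m w) = 0) : S.dS m v = 0 := by
  by_contra hne
  obtain ⟨w, hw⟩ := Shape.exists_B_one hne
  rw [B_dS hm, h] at hw
  exact zero_ne_one hw

variable [Finite G]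

theorem finite_vec : Finite S.Vec :=
  Nat.finite_of_card_ne_zero (by rw [Shape.card_vec]; norm_num)

theorem card_fix_mul_im (m : ↥S.C) : Nat.card (S.fixS m) * Nat.card (S.imS m) = 256 := by
  haveI : Finite S.Vec := finite_vec
  rw [← Shape.card_vec (S := S.S0), AddSubgroup.card_eq_card_quotient_mul_card_addSubgroup (S.fixS m),
    mul_comm]
  congr 1
  exact (Nat.card_congr (QuotientAddGroup.quotientKerEquivRange (S.dS m)).toEquiv).symm

theorem sixteen_le_fix {m : ↥S.C} (hm : S.ρ (m * m) = 1) : 16 ≤ Nat.card (S.fixS m) := by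
  haveI : Finite S.Vec := finite_vec
  have h1 := card_fix_mul_im m
  have h2 : Nat.card (S.imS m) ≤ Nat.card (S.fixS m) := AddSubgroup.card_le_of_le (imS_le_fixS hm)
  by_contra h
  nlinarith

end AutShape

/-- A conjugate of `z` commuting with `z`, outside `Q`. -/
structure Inv {G : Type u} [Group G] (S : AutShape G) where
  /-- the conjugating element -/
  g : G
  comm : g * S.z * g⁻¹ * S.z = S.z * (g * S.z * g⁻¹)
  notMem : g * S.z * g⁻¹ ∉ S.Q

namespace Inv

variable {G : Type u} [Group G] {S : AutShape G} (o : Inv S)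

/-- The conjugate. -/
def t : G := o.g * S.z * o.g⁻¹

/-- Its extraspecial subgroup. -/
def T : Subgroup G := S.Q.map (MulAut.conj o.g).toMonoidHom

theorem mem_T {x : G} : x ∈ o.T ↔ o.g⁻¹ * x * o.g ∈ S.Q := by
  constructor
  · rintro ⟨y, hy, rfl⟩
    simpa [mul_assoc] using hy
  · exact fun h => ⟨_, h, by simp [mul_assoc]⟩

theorem t_comm : o.t * S.z = S.z * o.t := o.comm

theorem t_mem_C : o.t ∈ S.C := S.mem_C o.t_comm

/-- `t` in `C(z)`. -/
def tC : ↥S.C := ⟨o.t, o.t_mem_C⟩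

theorem t_sq : o.t * o.t = 1 := by
  rw [t, show o.g * S.z * o.g⁻¹ * (o.g * S.z * o.g⁻¹) = o.g * (S.z * S.z) * o.g⁻¹ by group,
    S.sub.mul_self]
  group

theorem t_inv : o.t⁻¹ = o.t := inv_eq_of_mul_eq_one_right o.t_sq

theorem tC_sq : S.ρ (o.tC * o.tC) = 1 := by
  convert map_one S.ρ
  exact Subtype.ext o.t_sq

theorem conj_eq_t {a x : G} (ha : a * o.t = o.t * a) (hx : x ∈ o.T) : a * x * a⁻¹ ∈ o.T := by
  rw [mem_T] at hx ⊢
  have hc : o.g⁻¹ * a * o.g * S.z = S.z * (o.g⁻¹ * a * o.g) := by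
    calc o.g⁻¹ * a * o.g * S.z = o.g⁻¹ * (a * o.t) * o.g := by rw [t]; group
      _ = o.g⁻¹ * (o.t * a) * o.g := by rw [ha]
      _ = _ := by rw [t]; group
  have h := S.sub.conj_mem hc hx
  convert h using 1
  group

theorem T_comm {x : G} (hx : x ∈ o.T) : x * o.t = o.t * x := by
  obtain ⟨y, hy, rfl⟩ := hx
  show o.g * y * o.g⁻¹ * (o.g * S.z * o.g⁻¹) = o.g * S.z * o.g⁻¹ * (o.g * y * o.g⁻¹)
  rw [show o.g * y * o.g⁻¹ * (o.g * S.z * o.g⁻¹) = o.g * (y * S.z) * o.g⁻¹ by group,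
    show o.g * S.z * o.g⁻¹ * (o.g * y * o.g⁻¹) = o.g * (S.z * y) * o.g⁻¹ by group, S.sub.z_comm hy]

theorem t_mem_T : o.t ∈ o.T := ⟨S.z, S.sub.z_mem, rfl⟩

theorem t_ne_z : o.t ≠ S.z := fun h => o.notMem (by rw [← t, h]; exact S.sub.z_mem)

/-- The intersection of the two extraspecial subgroups. -/
def K : Subgroup G := S.Q ⊓ o.T

/-- The centralizer of `t` in `Q`. -/
def CQ : Subgroup G := S.Q ⊓ Subgroup.centralizer ({o.t} : Set G)

theorem mem_CQ {x : G} : x ∈ o.CQ ↔ x ∈ S.Q ∧ x * o.t = o.t * x := by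
  rw [CQ, Subgroup.mem_inf, Subgroup.mem_centralizer_singleton_iff]

theorem K_le_CQ : o.K ≤ o.CQ := fun _ hx => o.mem_CQ.2 ⟨hx.1, o.T_comm hx.2⟩

/-- The centralizer of `z` in the inner part of `T`. -/
def X : Subgroup G := o.T ⊓ S.C ⊓ S.H0

variable [Finite G]

/-- `t` is the only conjugate of `z` in its subgroup. -/
theorem eq_t {x : G} (hx : x ∈ o.T) (hc : IsConj S.z x) : x = o.t := by
  obtain ⟨h, rfl⟩ := isConj_iff.1 hc
  have hm : o.g⁻¹ * h * S.z * (o.g⁻¹ * h)⁻¹ ∈ S.Q := by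
    have := o.mem_T.1 hx
    convert this using 1
    group
  have := AutShape.eq_z_of_mem hm
  rw [t, ← congrArg (fun y => o.g * y * o.g⁻¹) this]
  group

theorem z_not_mem : S.z ∉ o.T := fun h => o.t_ne_z (o.eq_t h (IsConj.refl _)).symm

theorem eq_one_of_isConj {u : G} (hu : u ∈ o.T) (hc : IsConj S.z (o.t * u)) : u = 1 :=
  mul_eq_left.1 (o.eq_t (mul_mem o.t_mem_T hu) hc)

/-- The same situation seen from `t`. -/
def swap : Inv S where
  g := o.g⁻¹
  comm := by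
    have h := congrArg (fun x => o.g⁻¹ * x * o.g) o.comm
    calc o.g⁻¹ * S.z * o.g⁻¹⁻¹ * S.z = o.g⁻¹ * (S.z * (o.g * S.z * o.g⁻¹)) * o.g := by group
      _ = o.g⁻¹ * (o.g * S.z * o.g⁻¹ * S.z) * o.g := h.symm
      _ = _ := by group
  notMem := fun h => o.z_not_mem (o.mem_T.2 (by simpa using h))

theorem swap_t : o.swap.t = o.g⁻¹ * S.z * o.g := by simp [swap, t]

/-- Two non-commuting elements of `Q` centralizing the other conjugate make `t` inner. -/
theorem mem_H0_of_not_comm {x y : G} (hx : x ∈ o.swap.CQ) (hy : y ∈ o.swap.CQ)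
    (hxy : x * y ≠ y * x) : o.t ∈ S.H0 := by
  rw [mem_CQ, swap_t] at hx hy
  have hC : ∀ a : G, a * (o.g⁻¹ * S.z * o.g) = o.g⁻¹ * S.z * o.g * a → o.g * a * o.g⁻¹ ∈ S.C := by
    intro a ha
    refine S.mem_C ?_
    calc o.g * a * o.g⁻¹ * S.z = o.g * (a * (o.g⁻¹ * S.z * o.g)) * o.g⁻¹ := by group
      _ = o.g * (o.g⁻¹ * S.z * o.g * a) * o.g⁻¹ := by rw [ha]
      _ = _ := by group
  have hc := S.commutator_mem_H0 (hC x hx.2) (hC y hy.2)
  have e : x * y * x⁻¹ * y⁻¹ = S.z := (S.sub.comm_eq hx.1 hy.1).resolve_left fun e =>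
    hxy (mul_inv_eq_iff_eq_mul.1 (mul_inv_eq_one.1 e))
  convert hc using 1
  rw [t, ← e]
  group

/-- The element `[t, y]`. -/
def r (y : G) : G := o.t * y * o.t⁻¹ * y⁻¹

omit [Finite G] in
theorem r_mem {y : G} (hy : y ∈ S.Q) : o.r y ∈ S.Q := mul_mem (S.conj_mem o.t_mem_C hy) (inv_mem hy)

omit [Finite G] in
theorem pG_r {y : G} (hy : y ∈ S.Q) : S.pG (o.r y) = S.dS o.tC (S.pG y) := by
  rw [r, AutShape.pG_mul (S.conj_mem o.t_mem_C hy) (inv_mem hy), AutShape.pG_inv hy, AutShape.dS_apply,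
    AutShape.cact_pG _ hy]
  rfl

omit [Finite G] in
theorem isConj_t_r (y : G) : IsConj S.z (o.t * o.r y) := by
  have h : o.t * o.r y = y * o.t * y⁻¹ := by
    rw [r, ← mul_assoc, ← mul_assoc, ← mul_assoc, o.t_sq, one_mul, t_inv]
  rw [h]
  exact (isConj_iff.2 ⟨o.g, rfl⟩ : IsConj S.z o.t).trans (isConj_iff.2 ⟨y, rfl⟩)

theorem r_mem_T_iff {y : G} (h : o.r y ∈ o.T) : o.r y = 1 := o.eq_one_of_isConj h (o.isConj_t_r y)

omit [Finite G] in
/-- An element over the image of `1 + t` is `[t, y]` or `z [t, y]`. -/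
theorem exists_r {x : G} (hx : x ∈ S.Q) (h : S.pG x ∈ S.imS o.tC) :
    ∃ y ∈ S.Q, x = o.r y ∨ x = S.z * o.r y := by
  obtain ⟨v, hv⟩ := h
  obtain ⟨y, hy, rfl⟩ := AutShape.pG_surj v
  refine ⟨y, hy, (AutShape.pG_eq_iff hx (o.r_mem hy)).1 ?_⟩
  rw [o.pG_r hy, hv]

omit [Finite G] in
theorem pG_mem_fix_iff {x : G} (hx : x ∈ S.Q) : S.pG x ∈ S.fixS o.tC ↔
    o.t * x * o.t⁻¹ = x ∨ o.t * x * o.t⁻¹ = S.z * x := by
  rw [AutShape.mem_fixS, AutShape.cact_pG _ hx]
  exact AutShape.pG_eq_iff (S.conj_mem o.t_mem_C hx) hx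

omit [Finite G] in
theorem CQ_fix {x : G} (hx : x ∈ o.CQ) : S.pG x ∈ S.fixS o.tC :=
  (o.pG_mem_fix_iff (o.mem_CQ.1 hx).1).2
    (Or.inl (mul_inv_eq_iff_eq_mul.2 (o.mem_CQ.1 hx).2.symm))

omit [Finite G] in
theorem z_mem_CQ : S.z ∈ o.CQ := o.mem_CQ.2 ⟨S.sub.z_mem, o.t_comm.symm⟩

/-- The preimage of the fixed space. -/
def PF : Subgroup G where
  carrier := {x | x ∈ S.Q ∧ S.pG x ∈ S.fixS o.tC}
  one_mem' := ⟨one_mem _, by rw [AutShape.pG_one]; exact zero_mem _⟩
  mul_mem' := fun {a b} ha hb => ⟨mul_mem ha.1 hb.1, by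
    rw [AutShape.pG_mul ha.1 hb.1]; exact add_mem ha.2 hb.2⟩
  inv_mem' := fun {a} ha => ⟨inv_mem ha.1, by rw [AutShape.pG_inv ha.1]; exact ha.2⟩

omit [Finite G] in
theorem CQ_le_PF : o.CQ ≤ o.PF := fun _ hx => ⟨(o.mem_CQ.1 hx).1, o.CQ_fix hx⟩

omit [Finite G] in
theorem card_PF : Nat.card o.PF = 2 * Nat.card (S.fixS o.tC) := by
  choose y hy hyv using fun v : S.fixS o.tC => AutShape.pG_surj (v : S.Vec)
  have hin : ∀ b : Bool, ∀ v, (if b then S.z else 1) * y v ∈ o.PF := fun b v => by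
    refine mul_mem ?_ ⟨hy v, by rw [hyv]; exact v.2⟩
    split
    · exact o.CQ_le_PF o.z_mem_CQ
    · exact one_mem _
  have hb : Function.Bijective fun q : Bool × S.fixS o.tC =>
      (⟨(if q.1 then S.z else 1) * y q.2, hin q.1 q.2⟩ : o.PF) := by
    constructor
    · rintro ⟨a, v⟩ ⟨b, w⟩ e
      have e1 : (if a then S.z else 1) * y v = (if b then S.z else 1) * y w := congrArg Subtype.val e
      have e2 := congrArg S.pG e1
      rw [AutShape.pG_mul (by split <;> simp [S.sub.z_mem, one_mem]) (hy v),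
        AutShape.pG_mul (by split <;> simp [S.sub.z_mem, one_mem]) (hy w), hyv, hyv] at e2
      have hvw : v = w := Subtype.ext (by revert e2; split <;> split <;> simp)
      subst hvw
      have e3 := mul_right_cancel e1
      cases a <;> cases b <;> simp at e3 ⊢
      · exact S.sub.ne_one e3.symm
      · exact S.sub.ne_one e3
    · rintro ⟨x, hx, hxf⟩
      rcases (AutShape.pG_eq_iff hx (hy ⟨_, hxf⟩)).1 (hyv ⟨_, hxf⟩).symm with e | e
      · exact ⟨(false, ⟨_, hxf⟩), Subtype.ext (by simpa using e.symm)⟩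
      · exact ⟨(true, ⟨_, hxf⟩), Subtype.ext (by simpa using e.symm)⟩
  rw [← Nat.card_eq_of_bijective _ hb, Nat.card_prod]
  simp

omit [Finite G] in
theorem PF_move {x : G} (hx : x ∈ o.PF) (h : x ∉ o.CQ) : o.t * x * o.t⁻¹ = S.z * x :=
  ((o.pG_mem_fix_iff hx.1).1 hx.2).resolve_left fun e =>
    h (o.mem_CQ.2 ⟨hx.1, (mul_inv_eq_iff_eq_mul.1 e).symm⟩)

theorem PF_le_two_CQ : Nat.card o.PF ≤ 2 * Nat.card o.CQ := by
  by_cases h : o.PF ≤ o.CQ
  · have := Subgroup.card_le_of_le h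
    omega
  · obtain ⟨a, ha, hac⟩ := Set.not_subset.1 h
    have hidx : (o.CQ.subgroupOf o.PF).index = 2 := by
      rw [Subgroup.index_eq_two_iff]
      refine ⟨⟨a, ha⟩, fun b => ?_⟩
      simp only [Subgroup.mem_subgroupOf, Subgroup.coe_mul]
      by_cases hb : (b : G) ∈ o.CQ
      · exact Or.inr ⟨hb, fun h' => hac ((Subgroup.mul_mem_cancel_left _ hb).1 h')⟩
      · refine Or.inl ⟨o.mem_CQ.2 ⟨mul_mem b.2.1 ha.1, ?_⟩, hb⟩
        refine (mul_inv_eq_iff_eq_mul.1 ?_).symm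
        rw [show o.t * ((b : G) * a) * o.t⁻¹ = o.t * (b : G) * o.t⁻¹ * (o.t * a * o.t⁻¹) by group,
          o.PF_move b.2 hb, o.PF_move ha hac, show S.z * (b : G) * (S.z * a) =
            S.z * ((b : G) * S.z) * a by group, S.sub.z_comm b.2.1, ← mul_assoc S.z, S.sub.mul_self,
          one_mul]
    have h2 := (o.CQ.subgroupOf o.PF).index_mul_card
    rw [hidx, Nat.card_congr (Subgroup.subgroupOfEquivOfLe o.CQ_le_PF).toEquiv] at h2
    omega

theorem fix_le_CQ : Nat.card (S.fixS o.tC) ≤ Nat.card o.CQ := by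
  have h1 := o.card_PF
  have h2 := o.PF_le_two_CQ
  omega

theorem sixteen_le_CQ : 16 ≤ Nat.card o.CQ := (AutShape.sixteen_le_fix o.tC_sq).trans o.fix_le_CQ

/-- When the centralizer has order sixteen the two subgroups meet trivially. -/
theorem K_eq_one (h : Nat.card o.CQ = 16) {e : G} (he : e ∈ o.K) : e = 1 := by
  haveI : Finite S.Vec := AutShape.finite_vec
  have h16 := AutShape.sixteen_le_fix o.tC_sq
  have hle := o.fix_le_CQ
  have hfix : Nat.card (S.fixS o.tC) = 16 := by omega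
  have hmul := AutShape.card_fix_mul_im o.tC
  have heq : S.imS o.tC = S.fixS o.tC :=
    AddSubgroup.eq_of_le_of_card_ge (AutShape.imS_le_fixS o.tC_sq) (by rw [hfix] at hmul ⊢; omega)
  obtain ⟨c, hc, hcm⟩ : ∃ c, c ∈ S.Q ∧ o.t * c * o.t⁻¹ = S.z * c := by
    by_contra! hne
    have hsub : o.PF ≤ o.CQ := fun x hx => by
      by_contra hxc
      exact hne x hx.1 (o.PF_move hx hxc)
    have := Subgroup.card_le_of_le hsub
    rw [o.card_PF] at this
    omega
  obtain ⟨y, hy, hr⟩ := o.exists_r he.1 (heq ▸ o.CQ_fix (o.K_le_CQ he))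
  rcases hr with e' | e'
  · rw [e'] at he ⊢
    exact o.r_mem_T_iff he.2
  · have hzr : o.r (y * c) = S.z * o.r y := by
      rw [r, show o.t * (y * c) * o.t⁻¹ * (y * c)⁻¹ =
        o.t * y * o.t⁻¹ * (o.t * c * o.t⁻¹ * c⁻¹) * y⁻¹ by group, hcm, mul_inv_cancel_right,
        S.sub.z_comm (S.conj_mem o.t_mem_C hy), mul_assoc]
      rfl
    rw [e', ← hzr] at he ⊢
    exact o.r_mem_T_iff he.2

/-- The part of `T` centralizing `z` is a conjugate of the centralizer of the other conjugate in `Q`. -/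
theorem card_T_C : Nat.card ↥(o.T ⊓ S.C) = Nat.card o.swap.CQ := by
  refine Nat.card_congr
    { toFun := fun x => ⟨o.g⁻¹ * (x : G) * o.g, o.swap.mem_CQ.2 ⟨o.mem_T.1 x.2.1, ?_⟩⟩
      invFun := fun a => ⟨o.g * (a : G) * o.g⁻¹, ?_, ?_⟩
      left_inv := fun x => Subtype.ext (by group)
      right_inv := fun a => Subtype.ext (by group) }
  · rw [swap_t]
    calc o.g⁻¹ * (x : G) * o.g * (o.g⁻¹ * S.z * o.g) = o.g⁻¹ * ((x : G) * S.z) * o.g := by group
      _ = o.g⁻¹ * (S.z * (x : G)) * o.g := by rw [S.comm_C x.2.2]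
      _ = _ := by group
  · refine o.mem_T.2 ?_
    convert (o.swap.mem_CQ.1 a.2).1 using 1
    group
  · have h := (o.swap.mem_CQ.1 a.2).2
    rw [swap_t] at h
    refine S.mem_C ?_
    calc o.g * (a : G) * o.g⁻¹ * S.z = o.g * ((a : G) * (o.g⁻¹ * S.z * o.g)) * o.g⁻¹ := by group
      _ = o.g * (o.g⁻¹ * S.z * o.g * (a : G)) * o.g⁻¹ := by rw [h]
      _ = _ := by group

theorem eight_le_X : 8 ≤ Nat.card o.X := by
  have h1 : 16 ≤ Nat.card ↥(o.T ⊓ S.C) := o.card_T_C ▸ o.swap.sixteen_le_CQ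
  unfold X
  rcases AutShape.card_inner_half (S := S) (X := o.T ⊓ S.C) inf_le_right with ⟨-, h⟩ | h <;> omega

/-- Unless the other centralizer is small the inner part has order sixteen. -/
theorem sixteen_le_X (hK : ∃ e ∈ o.K, e ≠ 1) : 16 ≤ Nat.card o.X := by
  have h16 := o.swap.sixteen_le_CQ
  have hne : Nat.card o.swap.CQ ≠ 16 := by
    intro h
    obtain ⟨e, he, he1⟩ := hK
    apply he1
    have hmem : o.g⁻¹ * e * o.g ∈ o.swap.K := by
      refine ⟨o.mem_T.1 he.2, o.swap.mem_T.2 ?_⟩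
      convert he.1 using 1
      simp [swap]
      group
    have := o.swap.K_eq_one h hmem
    calc e = o.g * (o.g⁻¹ * e * o.g) * o.g⁻¹ := by group
      _ = 1 := by rw [this]; group
  have hp : IsPGroup 2 o.swap.CQ :=
    (IsPGroup.of_card (p := 2) (n := 9) (by rw [S.card_Q]; norm_num) : IsPGroup 2 S.Q).to_le inf_le_left
  obtain ⟨j, hj⟩ := hp.exists_card_eq
  have h32 : 32 ≤ Nat.card o.swap.CQ := by
    rw [hj] at h16 hne ⊢
    have h4 : 4 ≤ j := (Nat.pow_le_pow_iff_right (le_refl 2)).1 (by simpa using h16)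
    have h5 : 5 ≤ j := by
      by_contra h
      exact hne (by rw [show j = 4 by omega]; norm_num)
    exact le_trans (by norm_num) (Nat.pow_le_pow_right (by norm_num) h5)
  rw [← o.card_T_C] at h32
  unfold X
  rcases AutShape.card_inner_half (S := S) (X := o.T ⊓ S.C) inf_le_right with ⟨-, h⟩ | h <;> omega

/-- Large fixed spaces give non-commuting elements in the centralizer. -/
theorem exists_not_comm (h : 64 ≤ Nat.card (S.fixS o.tC)) :
    ∃ x ∈ o.CQ, ∃ y ∈ o.CQ, x * y ≠ y * x := by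
  haveI : Finite S.Vec := AutShape.finite_vec
  by_contra! hab
  let A : AddSubgroup S.Vec :=
    { carrier := {v | ∃ x ∈ o.CQ, S.pG x = v}
      zero_mem' := ⟨1, one_mem _, AutShape.pG_one⟩
      add_mem' := by
        rintro _ _ ⟨x, hx, rfl⟩ ⟨y, hy, rfl⟩
        exact ⟨x * y, mul_mem hx hy, AutShape.pG_mul hx.1 hy.1⟩
      neg_mem' := by
        rintro _ ⟨x, hx, rfl⟩
        exact ⟨x⁻¹, inv_mem hx, by rw [AutShape.pG_inv hx.1, Shape.neg_eq']⟩ }
  have h16 := Shape.card_isotropic_le (S := S.S0) A fun v hv w hw => by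
    obtain ⟨x, hx, rfl⟩ := hv
    obtain ⟨y, hy, rfl⟩ := hw
    exact (AutShape.B_pG hx.1 hy.1).2 (hab x hx y hy)
  choose y hy hyv using fun v : A => v.2
  have hin : ∀ b : Bool, ∀ v, (if b then S.z else 1) * y v ∈ o.CQ := fun b v => by
    refine mul_mem ?_ (hy v)
    split
    exacts [o.z_mem_CQ, one_mem _]
  have hsurj : Function.Surjective fun q : Bool × A =>
      (⟨(if q.1 then S.z else 1) * y q.2, hin q.1 q.2⟩ : o.CQ) := by
    rintro ⟨x, hx⟩
    rcases (AutShape.pG_eq_iff hx.1 (hy ⟨_, x, hx, rfl⟩).1).1 (hyv ⟨_, x, hx, rfl⟩).symm with e | e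
    · exact ⟨(false, ⟨_, x, hx, rfl⟩), Subtype.ext (by simpa using e.symm)⟩
    · exact ⟨(true, ⟨_, x, hx, rfl⟩), Subtype.ext (by simpa using e.symm)⟩
  have h2 := Nat.card_le_card_of_surjective _ hsurj
  rw [Nat.card_prod, show Nat.card Bool = 2 by simp] at h2
  have h3 : Nat.card o.CQ ≤ 2 * 16 := h2.trans (Nat.mul_le_mul_left 2 h16)
  have := o.fix_le_CQ
  omega

/-- If the other conjugate has a large fixed space, `t` is inner. -/
theorem mem_H0_of_swap_large (h : 64 ≤ Nat.card (S.fixS o.swap.tC)) : o.t ∈ S.H0 := by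
  obtain ⟨x, hx, y, hy, hxy⟩ := o.swap.exists_not_comm h
  exact o.mem_H0_of_not_comm hx hy hxy

omit [Finite G] in
/-- `t` commutes with the part of `T` centralizing `z`, so its image commutes with theirs. -/
theorem cact_comm {x : G} (hx : x ∈ o.T) (hxC : x ∈ S.C) (v : S.Vec) :
    S.cact ⟨x, hxC⟩ (S.cact o.tC v) = S.cact o.tC (S.cact ⟨x, hxC⟩ v) := by
  rw [← AutShape.cact_mul, ← AutShape.cact_mul]
  exact DFunLike.congr_fun (congrArg S.cact (Subtype.ext (o.T_comm hx))) v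

omit [Finite G] in
/-- Such an element moves the centralizer of `t` in `Q` only inside `K`. -/
theorem comm_mem_K {x c : G} (hx : x ∈ o.T) (hxC : x ∈ S.C) (hc : c ∈ o.CQ) :
    x * c * x⁻¹ * c⁻¹ ∈ o.K := by
  refine ⟨mul_mem (S.conj_mem hxC (o.mem_CQ.1 hc).1) (S.Q.inv_mem (o.mem_CQ.1 hc).1), ?_⟩
  rw [show x * c * x⁻¹ * c⁻¹ = x * (c * x⁻¹ * c⁻¹) by group]
  exact o.T.mul_mem hx (o.conj_eq_t (o.mem_CQ.1 hc).2 (o.T.inv_mem hx))

end Inv

end CfsgLib.USixAut
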