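import Cfsg.Agent.USixAut.Inv

/-!
# Semilinear outer elements: no conjugate of `z` in `C(z)` is outer

`t` outer has a fixed space `Φ` of order sixteen equal to the image of `1 + t`, and `V = Φ ⊕ ω Φ`, so
an inner element commuting with `t` is determined by its effect on `Φ`. The inner part `X` of
`T ∩ C(z)` moves `C_Q(t)` only inside `K = Q ∩ T`, and `K` is small as no other conjugate of `z` is in
`T`; this bounds `X` below what the fixed space of the other conjugate requires.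
-/

set_option autoImplicit false
set_option linter.style.haveILetI false

open CfsgLib.LargeExtraspecial CfsgLib.SpFourThree70

namespace CfsgLib.USixAut

open CfsgLib.USixRec

universe u

/-- A scalar of order three: linear for inner elements, conjugated by the outer ones. -/
structure Scalar {G : Type u} [Group G] (S : AutShape G) where
  /-- the scalar -/
  ω : S.Vec →+ S.Vec
  fpf : ∀ v, ω v = v → v = 0
  sq : ∀ v, ω (ω v) = ω v + v
  lin : ∀ m : ↥S.C, (m : G) ∈ S.H0 → ∀ v, S.cact m (ω v) = ω (S.cact m v)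
  semi : ∀ m : ↥S.C, (m : G) ∉ S.H0 → ∀ v, S.cact m (ω v) = ω (ω (S.cact m v))

/-- Two commuting nontrivial involutive maps of a set of three points are equal. -/
theorem three_points : ∀ f g : Fin 3 → Fin 3, (∀ i, f (f i) = i) → (∀ i, g (g i) = i) →
    (∀ i, f (g i) = g (f i)) → (∀ i, f i = i) ∨ (∀ i, g i = i) ∨ ∀ i, f i = g i := by
  decide +kernel

namespace Scalar

variable {G : Type u} [Group G] {S : AutShape G} (sc : Scalar S)

theorem omega_inj {v : S.Vec} (h : sc.ω v = 0) : v = 0 := by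
  have := sc.sq v
  rw [h, map_zero, zero_add] at this
  exact this.symm

variable [Finite G] {m : ↥S.C}

include sc

/-- The fixed space and its multiple meet trivially and fill the space. -/
theorem decompose (hm : (m : G) ∉ S.H0) (hm2 : S.ρ (m * m) = 1) :
    Nat.card (S.fixS m) = 16 ∧ S.imS m = S.fixS m ∧
      ∀ v, ∃ a ∈ S.fixS m, ∃ b ∈ S.fixS m, v = a + sc.ω b := by
  haveI : Finite S.Vec := AutShape.finite_vec
  let f : S.fixS m × S.fixS m → S.Vec := fun p => (p.1 : S.Vec) + sc.ω p.2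
  have hf : Function.Injective f := by
    rintro ⟨a, b⟩ ⟨a', b'⟩ h
    set d := (a : S.Vec) - a'
    set e := (b : S.Vec) - b'
    have he : d + sc.ω e = 0 := by
      simp only [f, d, e, map_sub] at h ⊢
      rw [show ((a : S.Vec) - a') + (sc.ω b - sc.ω b') = (a + sc.ω b) - (a' + sc.ω b') by abel, h,
        sub_self]
    have hd : S.cact m d = d := AutShape.mem_fixS.1 (sub_mem a.2 a'.2)
    have hee : S.cact m e = e := AutShape.mem_fixS.1 (sub_mem b.2 b'.2)
    have h2 := congrArg (S.cact m) he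
    rw [map_add, map_zero, hd, sc.semi m hm, hee] at h2
    have h3 : sc.ω (sc.ω e) = sc.ω e := add_left_cancel (h2.trans he.symm)
    have he0 : e = 0 := sc.omega_inj (sc.fpf _ h3)
    have hd0 : d = 0 := by rwa [he0, map_zero, add_zero] at he
    exact Prod.ext (Subtype.ext (sub_eq_zero.1 hd0)) (Subtype.ext (sub_eq_zero.1 he0))
  have h1 := Nat.card_le_card_of_injective f hf
  rw [Nat.card_prod, Shape.card_vec] at h1
  have h16 := AutShape.sixteen_le_fix hm2
  have hfix : Nat.card (S.fixS m) = 16 := by nlinarith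
  refine ⟨hfix, ?_, fun v => ?_⟩
  · have hmul := AutShape.card_fix_mul_im m
    exact AddSubgroup.eq_of_le_of_card_ge (AutShape.imS_le_fixS hm2) (by rw [hfix] at hmul ⊢; omega)
  · obtain ⟨⟨a, b⟩, hab⟩ := (hf.bijective_of_nat_card_le
      (by rw [Nat.card_prod, Shape.card_vec, hfix])).2 v
    exact ⟨a, a.2, b, b.2, hab.symm⟩

theorem fix_isotropic (hm : (m : G) ∉ S.H0) (hm2 : S.ρ (m * m) = 1) {a b : S.Vec}
    (ha : a ∈ S.fixS m) (hb : b ∈ S.fixS m) : S.S0.B a b = 0 := by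
  rw [← (sc.decompose hm hm2).2.1] at ha
  obtain ⟨v, rfl⟩ := ha
  rw [AutShape.B_dS hm2, show S.dS m b = 0 from hb, Shape.B_zero_right]

/-- An inner element fixing the fixed space of an outer one acts trivially. -/
theorem eq_one_of_fixes (hm : (m : G) ∉ S.H0) (hm2 : S.ρ (m * m) = 1) {x : G} (hx : x ∈ S.H0)
    (h : ∀ a ∈ S.fixS m, S.cact ⟨x, S.H0_le hx⟩ a = a) : x ∈ S.Q := by
  have hall : ∀ v, S.cact ⟨x, S.H0_le hx⟩ v = v := fun v => by
    obtain ⟨a, ha, b, hb, rfl⟩ := (sc.decompose hm hm2).2.2 v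
    rw [map_add, h a ha, sc.lin _ hx, h b hb]
  refine (S.inn_eq_one ⟨x, hx⟩).1 (Shape.eq_one_of_act (S := S.S0) fun v => ?_)
  rw [← AutShape.cact_inn hx, hall]

end Scalar

namespace Inv

variable {G : Type u} [Group G] {S : AutShape G} (o : Inv S)

/-- The action of an element of `X`. -/
noncomputable def xact (x : o.X) : S.Vec →+ S.Vec := S.cact ⟨(x : G), x.2.1.2⟩

theorem xact_mul (x x' : o.X) (v : S.Vec) : o.xact (x * x') v = o.xact x (o.xact x' v) := by
  unfold xact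
  rw [← AutShape.cact_mul]
  rfl

theorem xact_one (v : S.Vec) : o.xact 1 v = v := AutShape.cact_one v

theorem xact_inv (x : o.X) (v : S.Vec) : o.xact x⁻¹ (o.xact x v) = v := by
  rw [← xact_mul, inv_mul_cancel, xact_one]

theorem xact_congr {x x' : o.X} (h : x = x') (v : S.Vec) : o.xact x v = o.xact x' v := h ▸ rfl

theorem xact_comm_t (x : o.X) (v : S.Vec) :
    o.xact x (S.cact o.tC v) = S.cact o.tC (o.xact x v) := o.cact_comm x.2.1.1 x.2.1.2 v

theorem xact_fix {x : o.X} {v : S.Vec} (hv : v ∈ S.fixS o.tC) : o.xact x v ∈ S.fixS o.tC := by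
  rw [AutShape.mem_fixS] at hv ⊢
  rw [← xact_comm_t, hv]

theorem xact_dS (x : o.X) (v : S.Vec) : o.xact x (S.dS o.tC v) = S.dS o.tC (o.xact x v) := by
  rw [AutShape.dS_apply, AutShape.dS_apply, map_add, xact_comm_t]

theorem xact_B (x : o.X) (v w : S.Vec) : S.S0.B (o.xact x v) (o.xact x w) = S.S0.B v w :=
  AutShape.cact_B _ _ _

variable [Finite G]

omit [Finite G] in
theorem eq_one_of_inner (ht : o.t ∉ S.H0) {u : G} (huH : u ∈ S.H0)
    (h : o.g⁻¹ * u * o.g = 1 ∨ o.g⁻¹ * u * o.g = S.z) : u = 1 := by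
  rcases h with e | e
  · calc u = o.g * (o.g⁻¹ * u * o.g) * o.g⁻¹ := by group
      _ = 1 := by rw [e]; group
  · exfalso
    apply ht
    rw [t, ← e, show o.g * (o.g⁻¹ * u * o.g) * o.g⁻¹ = u by group]
    exact huH

omit [Finite G] in
theorem X_sq (ht : o.t ∉ S.H0) (x : o.X) : x * x = 1 := by
  apply Subtype.ext
  refine o.eq_one_of_inner ht (mul_mem x.2.2 x.2.2) ?_
  have := S.sub.sq_eq (o.mem_T.1 x.2.1.1)
  simpa [mul_assoc] using this

omit [Finite G] in
theorem xact_xact_self (ht : o.t ∉ S.H0) (x : o.X) (v : S.Vec) : o.xact x (o.xact x v) = v := by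
  rw [← o.xact_mul, o.X_sq ht, o.xact_one]

omit [Finite G] in
theorem X_comm (ht : o.t ∉ S.H0) (x x' : o.X) : x * x' = x' * x := by
  have h : ((x * x' * x⁻¹ * x'⁻¹ : o.X) : G) = 1 := by
    refine o.eq_one_of_inner ht (x * x' * x⁻¹ * x'⁻¹).2.2 ?_
    have := S.sub.comm_eq (o.mem_T.1 x.2.1.1) (o.mem_T.1 x'.2.1.1)
    simpa [mul_assoc] using this
  exact mul_inv_eq_iff_eq_mul.1 (mul_inv_eq_one.1 (Subtype.ext h))

/-- An element of `X` fixing the fixed space lies in `K`. -/
theorem mem_K_of_fixes (sc : Scalar S) (ht : o.t ∉ S.H0) (x : o.X)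
    (h : ∀ a ∈ S.fixS o.tC, o.xact x a = a) : (x : G) ∈ o.K :=
  ⟨sc.eq_one_of_fixes (m := o.tC) ht o.tC_sq x.2.2 h, x.2.1.1⟩

/-- Bounding `X` by a map whose fibres differ by elements of `K`. -/
theorem card_X_le {α : Type} [Finite α] (f : o.X → α)
    (h : ∀ x x', f x = f x' → ((x * x' : o.X) : G) ∈ o.K) :
    Nat.card o.X ≤ Nat.card α * Nat.card o.K := by
  classical
  haveI : Nonempty o.X := ⟨1⟩
  rw [← Nat.card_prod]
  refine Nat.card_le_card_of_injective
    (fun x => (f x, (⟨_, h x (Function.invFun f (f x))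
      (Function.invFun_eq ⟨x, rfl⟩).symm⟩ : o.K))) fun x x' e => ?_
  simp only [Prod.mk.injEq, Subtype.mk.injEq] at e
  rw [e.1] at e
  exact mul_right_cancel (Subtype.ext e.2)

omit [Finite G] in
theorem pG_comm (x : o.X) {c : G} (hc : c ∈ o.CQ) :
    ∃ e ∈ o.K, o.xact x (S.pG c) = S.pG e + S.pG c := by
  have hK := o.comm_mem_K x.2.1.1 x.2.1.2 hc
  refine ⟨_, hK, ?_⟩
  rw [← AutShape.pG_mul hK.1 (o.mem_CQ.1 hc).1, inv_mul_cancel_right]
  exact AutShape.cact_pG _ (o.mem_CQ.1 hc).1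

theorem K_sq {e : G} (he : e ∈ o.K) : e * e = 1 := by
  rcases S.sub.sq_eq he.1 with h | h
  · exact h
  · exact absurd (h ▸ mul_mem he.2 he.2) o.z_not_mem

theorem pG_K_inj {e e' : G} (he : e ∈ o.K) (he' : e' ∈ o.K) (h : S.pG e = S.pG e') : e = e' :=
  ((AutShape.pG_eq_iff he.1 he'.1).1 h).resolve_right fun h' => o.z_not_mem (by
    have := o.T.mul_mem he.2 (o.T.inv_mem he'.2)
    rwa [h', mul_inv_cancel_right] at this)

/-- With trivial `K` the inner part has order at most two. -/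
theorem false_of_K_trivial (sc : Scalar S) (ht : o.t ∉ S.H0) (hK : ∀ e ∈ o.K, e = 1) : False := by
  have h8 := o.eight_le_X
  haveI : Finite o.K := inferInstance
  have hK1 : Nat.card o.K = 1 := Nat.card_eq_one_iff_unique.2
    ⟨⟨fun a b => Subtype.ext ((hK a a.2).trans (hK b b.2).symm)⟩, ⟨1⟩⟩
  have hfixC : ∀ (x : o.X) (c : G), c ∈ o.CQ → o.xact x (S.pG c) = S.pG c := fun x c hc => by
    obtain ⟨e, he, h⟩ := o.pG_comm x hc
    rw [h, hK e he, AutShape.pG_one, zero_add]
  by_cases hsub : o.PF ≤ o.CQ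
  · have h := o.card_X_le (fun _ : o.X => ()) fun x x' _ => o.mem_K_of_fixes sc ht _ fun a ha => by
      obtain ⟨c, hc, rfl⟩ := AutShape.pG_surj a
      exact hfixC _ c (hsub ⟨hc, ha⟩)
    rw [hK1, Nat.card_unique (α := Unit)] at h
    omega
  obtain ⟨c0, hc0, hc0C⟩ := Set.not_subset.1 hsub
  obtain ⟨-, him, -⟩ := sc.decompose (m := o.tC) ht o.tC_sq
  obtain ⟨yd, hyd⟩ : S.pG c0 ∈ S.imS o.tC := by rw [him]; exact hc0.2
  -- every fixed vector is in the image of the centralizer, or that plus `d`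
  have hcases : ∀ a ∈ S.fixS o.tC, (∃ c ∈ o.CQ, S.pG c = a) ∨ ∃ c ∈ o.CQ, S.pG c = a + S.pG c0 := by
    intro a ha
    obtain ⟨c, hc, rfl⟩ := AutShape.pG_surj a
    by_cases hcC : c ∈ o.CQ
    · exact Or.inl ⟨c, hcC, rfl⟩
    · refine Or.inr ⟨c * c0, o.mem_CQ.2 ⟨mul_mem hc hc0.1, ?_⟩, AutShape.pG_mul hc hc0.1⟩
      refine (mul_inv_eq_iff_eq_mul.1 ?_).symm
      rw [show o.t * (c * c0) * o.t⁻¹ = o.t * c * o.t⁻¹ * (o.t * c0 * o.t⁻¹) by group,
        o.PF_move ⟨hc, ha⟩ hcC, o.PF_move hc0 hc0C, show S.z * c * (S.z * c0) =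
          S.z * (c * S.z) * c0 by group, S.sub.z_comm hc, ← mul_assoc S.z, S.sub.mul_self, one_mul]
  have hperp : ∀ (x : o.X) (y : S.Vec), (∃ c ∈ o.CQ, S.pG c = S.dS o.tC y) →
      S.S0.B (o.xact x (S.pG c0)) y = S.S0.B (S.pG c0) y := by
    rintro x y ⟨c, hc, hcy⟩
    have hD : S.dS o.tC (o.xact x y) = S.dS o.tC y := by
      rw [← o.xact_dS, ← hcy, hfixC x c hc]
    have hf : o.xact x y + y ∈ S.fixS o.tC := by
      show S.dS o.tC _ = 0
      rw [map_add, hD, Shape.add_self']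
    have h1 := o.xact_B x (S.pG c0) y
    have h2 := sc.fix_isotropic (m := o.tC) ht o.tC_sq (o.xact_fix (x := x) hc0.2) hf
    rw [Shape.B_add_right, h1, CharTwo.add_eq_zero] at h2
    exact h2.symm
  have hle := o.card_X_le (fun x : o.X => S.S0.B (o.xact x (S.pG c0)) yd) fun x x' hxx => by
    have hsame : o.xact x (S.pG c0) = o.xact x' (S.pG c0) := by
      by_contra hne
      have hne' : o.xact x (S.pG c0) + o.xact x' (S.pG c0) ≠ 0 := fun h =>
        hne ((eq_neg_of_add_eq_zero_left h).trans (Shape.neg_eq' _))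
      obtain ⟨w, hw⟩ := Shape.exists_B_one hne'
      refine zero_ne_one (α := ZMod 2) (Eq.trans ?_ hw)
      rw [Shape.B_add_left]
      have hDw : S.dS o.tC w ∈ S.fixS o.tC := AutShape.imS_le_fixS o.tC_sq ⟨w, rfl⟩
      rcases hcases _ hDw with h | ⟨c, hc, hcw⟩
      · rw [hperp x w h, hperp x' w h, CharTwo.add_self_eq_zero]
      · have h : ∃ c ∈ o.CQ, S.pG c = S.dS o.tC (w + yd) := ⟨c, hc, by rw [map_add, hyd, hcw]⟩
        have e1 := hperp x _ h
        have e2 := hperp x' _ h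
        simp only [Shape.B_add_right] at e1 e2
        rw [← e2, hxx] at e1
        rw [add_right_cancel e1, CharTwo.add_self_eq_zero]
    refine o.mem_K_of_fixes sc ht _ fun a ha => ?_
    rw [o.xact_mul]
    rcases hcases a ha with ⟨c, hc, rfl⟩ | ⟨c, hc, hca⟩
    · rw [hfixC x' c hc, hfixC x c hc]
    · have ha' : a = S.pG c + S.pG c0 := by rw [hca, add_assoc, Shape.add_self', add_zero]
      rw [ha', map_add, hfixC x' c hc, map_add, hfixC x c hc, ← hsame, ← o.xact_mul, o.X_sq ht,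
        o.xact_one]
  rw [hK1, Nat.card_zmod] at hle
  omega

/-- A nontrivial element of `K` forces `t` to centralize the preimage of its fixed space. -/
theorem PF_le_CQ (sc : Scalar S) (ht : o.t ∉ S.H0) {e : G} (he : e ∈ o.K) (he1 : e ≠ 1) :
    o.PF ≤ o.CQ := by
  by_contra h
  have h32 : Nat.card o.PF = 32 := by
    rw [o.card_PF, (sc.decompose (m := o.tC) ht o.tC_sq).1]
  have hdvd := Subgroup.card_dvd_of_le o.CQ_le_PF
  have hlt : Nat.card o.CQ ≠ 32 := fun hc => h (le_of_eq (Subgroup.eq_of_le_of_card_ge o.CQ_le_PF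
    (by rw [hc, h32])).symm)
  have h16 := o.sixteen_le_CQ
  rw [h32] at hdvd
  have hle := Nat.le_of_dvd (by norm_num) hdvd
  have : Nat.card o.CQ = 16 := by
    rcases hdvd with ⟨k, hk⟩
    have : k < 3 := by nlinarith
    interval_cases k <;> omega
  exact he1 (o.K_eq_one this he)

/-- The element of `K` over `(1 + t) ȳ` is `z [t, y]`. -/
theorem K_eq_z_r {e : G} (he : e ∈ o.K) (he1 : e ≠ 1) {y : G} (hy : y ∈ S.Q)
    (h : S.dS o.tC (S.pG y) = S.pG e) : e = S.z * o.r y := by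
  rw [← o.pG_r hy] at h
  rcases (AutShape.pG_eq_iff (o.r_mem hy) he.1).1 h with e' | e'
  · exact absurd (e' ▸ o.r_mem_T_iff (e'.symm ▸ he.2)) he1
  · rw [e', ← mul_assoc, S.sub.mul_self, one_mul]

theorem K_pair_one {e e' : G} (he : e ∈ o.K) (he1 : e ≠ 1) (he' : e' ∈ o.K) (he1' : e' ≠ 1)
    (hne : e ≠ e') {v : S.Vec} (hv : S.dS o.tC v = S.pG e) (him : S.pG e' ∈ S.imS o.tC) :
    S.S0.B v (S.pG e') = 1 := by
  by_contra hB
  have hB0 : S.S0.B v (S.pG e') = 0 := (by decide : ∀ a : ZMod 2, a ≠ 1 → a = 0) _ hB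
  obtain ⟨y, hy, rfl⟩ := AutShape.pG_surj v
  obtain ⟨v', hv'⟩ := him
  obtain ⟨y', hy', rfl⟩ := AutShape.pG_surj v'
  have e1 := o.K_eq_z_r he he1 hy hv
  have e2 := o.K_eq_z_r he' he1' hy' hv'
  have hc : y * o.r y' = o.r y' * y := by
    refine (AutShape.B_pG hy (o.r_mem hy')).1 ?_
    rw [o.pG_r hy', hv', hB0]
  have hzry : S.z * o.r y = o.r y * S.z := (S.sub.z_comm (o.r_mem hy)).symm
  have hprod : e * e' = o.r (y * y') := by
    rw [e1, e2, hzry, mul_assoc, ← mul_assoc S.z, S.sub.mul_self, one_mul]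
    calc o.r y * o.r y' = o.t * y * o.t⁻¹ * (y⁻¹ * o.r y') := by rw [r]; group
      _ = o.t * y * o.t⁻¹ * (o.r y' * y⁻¹) := by
        congr 1
        exact (Commute.inv_left (hc : Commute y (o.r y'))).eq
      _ = o.r (y * y') := by rw [r, r]; group
  have h1 := o.r_mem_T_iff (hprod ▸ mul_mem he.2 he'.2)
  rw [← hprod] at h1
  exact hne (mul_right_cancel (b := e') (h1.trans (o.K_sq he').symm))

theorem K_pair_zero {e : G} (he : e ∈ o.K) {v : S.Vec} (hv : S.dS o.tC v = S.pG e) :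
    S.S0.B v (S.pG e) = 0 := by
  have hq : S.S0.q (S.pG e) = 0 := (AutShape.q_pG he.1).2 (o.K_sq he)
  rw [← hv, AutShape.dS_apply, Shape.q_add, AutShape.cact_q, CharTwo.add_self_eq_zero, zero_add] at hq
  rw [← hv, AutShape.dS_apply, Shape.B_add_right, Shape.B_self, add_zero, Shape.B_symm, hq]

omit [Finite G] in
theorem xact_K_ne {x : o.X} {k : S.Vec} (hk : k ≠ 0) : o.xact x k ≠ 0 := fun h => hk (by
  rw [← o.xact_inv x k, h, map_zero])

/-- No conjugate of `z` in `C(z)` is outer. -/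
theorem mem_H0_of_scalar (sc : Scalar S) : o.t ∈ S.H0 := by
  classical
  by_contra ht
  by_cases hK : ∀ e ∈ o.K, e = 1
  · exact o.false_of_K_trivial sc ht hK
  push Not at hK
  obtain ⟨e1, he1, he1'⟩ := hK
  have h16 := o.sixteen_le_X ⟨e1, he1, he1'⟩
  have hPF := o.PF_le_CQ sc ht he1 he1'
  obtain ⟨-, him, -⟩ := sc.decompose (m := o.tC) ht o.tC_sq
  have hKim : ∀ {e}, e ∈ o.K → S.pG e ∈ S.imS o.tC := fun {e} he => by
    rw [him]; exact o.CQ_fix (o.K_le_CQ he)
  have hlift : ∀ a ∈ S.fixS o.tC, ∃ c ∈ o.CQ, S.pG c = a := fun a ha => by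
    obtain ⟨c, hc, rfl⟩ := AutShape.pG_surj a
    exact ⟨c, hPF ⟨hc, ha⟩, rfl⟩
  -- distinct nontrivial elements multiply to the third
  have htriple : ∀ {e e' e''}, e ∈ o.K → e ≠ 1 → e' ∈ o.K → e' ≠ 1 → e'' ∈ o.K → e'' ≠ 1 →
      e ≠ e' → e ≠ e'' → e' ≠ e'' → e' * e'' = e := by
    intro e e' e'' he h1 he' h1' he'' h1'' hne hne' hne''
    by_contra hprod
    obtain ⟨v, hv⟩ := hKim he
    have hm : e' * e'' ∈ o.K := mul_mem he' he''
    have hm1 : e' * e'' ≠ 1 := fun h => hne'' (mul_right_cancel (b := e'') (h.trans (o.K_sq he'').symm))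
    have hb := o.K_pair_one he h1 hm hm1 (fun h => hprod h.symm) hv (hKim hm)
    rw [AutShape.pG_mul he'.1 he''.1, Shape.B_add_right, o.K_pair_one he h1 he' h1' hne hv (hKim he'),
      o.K_pair_one he h1 he'' h1'' hne' hv (hKim he''), CharTwo.add_self_eq_zero] at hb
    exact zero_ne_one hb
  by_cases h2 : ∀ e ∈ o.K, e = 1 ∨ e = e1
  · -- order two
    have hK2 : Nat.card o.K ≤ 2 := by
      refine (Nat.card_le_card_of_injective (fun e : o.K => decide ((e : G) = 1))
        fun a b h => ?_).trans (by simp)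
      have h' := decide_eq_decide.1 h
      refine Subtype.ext ?_
      rcases h2 _ a.2 with ha | ha
      · rw [ha, h'.1 ha]
      · rw [ha]
        exact ((h2 _ b.2).resolve_left fun hb => he1' (ha ▸ h'.2 hb)).symm
    obtain ⟨yk, hyk⟩ := hKim he1
    have hkne : S.pG e1 ≠ 0 := fun h => by
      rcases (AutShape.pG_eq_zero he1.1).1 h with h' | h'
      exacts [he1' h', o.z_not_mem (h' ▸ he1.2)]
    obtain ⟨w, hw⟩ : ∃ w, S.S0.B yk (S.dS o.tC w) = 1 := by
      by_contra! h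
      exact hkne (hyk ▸ AutShape.fixed_of_orth o.tC_sq fun w =>
        (by decide : ∀ a : ZMod 2, a ≠ 1 → a = 0) _ (h w))
    have hmove : ∀ (x : o.X) (a : S.Vec), a ∈ S.fixS o.tC →
        o.xact x a = a ∨ o.xact x a = S.pG e1 + a := fun x a ha => by
      obtain ⟨c, hc, rfl⟩ := hlift a ha
      obtain ⟨e, he, h⟩ := o.pG_comm x hc
      rcases h2 e he with rfl | rfl
      · left; rw [h, AutShape.pG_one, zero_add]
      · exact Or.inr h
    have hfixall : ∀ x : o.X, o.xact x (S.dS o.tC w) = S.dS o.tC w →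
        ∀ a ∈ S.fixS o.tC, o.xact x a = a := by
      intro x hx a ha
      refine (hmove x a ha).resolve_right fun h => ?_
      have hf : o.xact x w + w ∈ S.fixS o.tC := by
        show S.dS o.tC _ = 0
        rw [map_add, ← o.xact_dS, hx, Shape.add_self']
      have h0 := sc.fix_isotropic (m := o.tC) ht o.tC_sq hf (o.xact_fix (x := x) ha)
      rw [Shape.B_add_left, o.xact_B, h, Shape.B_add_right, add_comm, add_assoc,
        CharTwo.add_self_eq_zero, add_zero, ← hyk, ← AutShape.B_dS o.tC_sq, Shape.B_symm, hw] at h0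
      exact one_ne_zero h0
    have hle := o.card_X_le (fun x : o.X => decide (o.xact x (S.dS o.tC w) = S.dS o.tC w))
      fun x x' hxx => o.mem_K_of_fixes sc ht _ fun a ha => by
        have hwf : S.dS o.tC w ∈ S.fixS o.tC := AutShape.imS_le_fixS o.tC_sq ⟨w, rfl⟩
        refine hfixall _ ?_ a ha
        have hiff := decide_eq_decide.1 hxx
        rw [o.xact_mul]
        by_cases hx : o.xact x (S.dS o.tC w) = S.dS o.tC w
        · rw [hiff.1 hx, hx]
        · have e' := (hmove x' _ hwf).resolve_left fun h => hx (hiff.2 h)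
          have e := (hmove x _ hwf).resolve_left hx
          rw [e', ← e, o.xact_xact_self ht]
    simp only [Nat.card_eq_fintype_card, Fintype.card_bool] at hle
    omega
  -- order four
  push Not at h2
  obtain ⟨e2, he2, he21, he2ne⟩ := h2
  have he3 : e1 * e2 ∈ o.K := mul_mem he1 he2
  have he31 : e1 * e2 ≠ 1 := fun h => he2ne
    (mul_right_cancel (b := e2) (h.trans (o.K_sq he2).symm)).symm
  have hKall : ∀ e ∈ o.K, e = 1 ∨ e = e1 ∨ e = e2 ∨ e = e1 * e2 := by
    intro e he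
    by_contra! h
    exact h.2.2.2 (htriple he h.1 he1 he1' he2 he21 h.2.1 h.2.2.1 fun q => he2ne q.symm).symm
  let K3 : Fin 3 → G := ![e1, e2, e1 * e2]
  have hK3 : ∀ i, K3 i ∈ o.K ∧ K3 i ≠ 1 := by
    intro i
    fin_cases i
    exacts [⟨he1, he1'⟩, ⟨he2, he21⟩, ⟨he3, he31⟩]
  have hK3inj : ∀ i j, K3 i = K3 j → i = j := by
    intro i j h
    fin_cases i <;> fin_cases j <;> simp [K3] at h ⊢
    · exact he2ne h.symm
    · exact he21 h
    · exact he2ne h
    · exact he1' h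
    · exact he21 h
    · exact he1' h
  have hkne : ∀ i, S.pG (K3 i) ≠ 0 := fun i h => by
    rcases (AutShape.pG_eq_zero (hK3 i).1.1).1 h with h' | h'
    exacts [(hK3 i).2 h', o.z_not_mem (h' ▸ (hK3 i).1.2)]
  have hmove : ∀ (x : o.X) (a : S.Vec), a ∈ S.fixS o.tC →
      ∃ e ∈ o.K, o.xact x a = S.pG e + a := fun x a ha => by
    obtain ⟨c, hc, rfl⟩ := hlift a ha
    exact o.pG_comm x hc
  have hperm : ∀ (x : o.X) (i : Fin 3), ∃ j, o.xact x (S.pG (K3 i)) = S.pG (K3 j) := by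
    intro x i
    obtain ⟨e, he, h⟩ := hmove x _ (o.CQ_fix (o.K_le_CQ (hK3 i).1))
    rw [← AutShape.pG_mul he.1 (hK3 i).1.1] at h
    rcases hKall _ (mul_mem he (hK3 i).1) with e' | e' | e' | e'
    · rw [e', AutShape.pG_one] at h
      exact absurd h (o.xact_K_ne (hkne i))
    · exact ⟨0, h.trans (congrArg S.pG e')⟩
    · exact ⟨1, h.trans (congrArg S.pG e')⟩
    · exact ⟨2, h.trans (congrArg S.pG e')⟩
  choose π hπ using hperm
  have hπinj : ∀ i j, S.pG (K3 i) = S.pG (K3 j) → i = j := fun i j h =>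
    hK3inj i j (o.pG_K_inj (hK3 i).1 (hK3 j).1 h)
  have hπmul : ∀ x x' i, π (x * x') i = π x (π x' i) := fun x x' i =>
    hπinj _ _ (by rw [← hπ, ← hπ, ← hπ, o.xact_mul])
  have hπone : ∀ i, π 1 i = i := fun i => hπinj _ _ (by rw [← hπ, o.xact_one])
  have hsq : ∀ x i, π x (π x i) = i := fun x i => by rw [← hπmul, o.X_sq ht, hπone]
  have hdet : ∀ x : o.X, (∀ i, π x i = i) → ∀ a ∈ S.fixS o.tC, o.xact x a = a := by
    intro x hx a ha
    obtain ⟨e, he, h⟩ := hmove x a ha
    by_cases he0 : e = 1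
    · rw [h, he0, AutShape.pG_one, zero_add]
    exfalso
    obtain ⟨j, hj⟩ : ∃ j, K3 j ≠ e := by
      by_contra! h
      exact absurd (hK3inj 0 1 ((h 0).trans (h 1).symm)) (by decide)
    obtain ⟨v, hv⟩ : a ∈ S.imS o.tC := by rw [him]; exact ha
    have hD : S.dS o.tC (o.xact x v + v) = S.pG e := by
      rw [map_add, ← o.xact_dS, hv, h, add_assoc, Shape.add_self', add_zero]
    have h1 := o.K_pair_one he he0 (hK3 j).1 (hK3 j).2 (fun q => hj q.symm) hD (hKim (hK3 j).1)
    have h2 := o.xact_B x v (S.pG (K3 j))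
    rw [hπ, hx] at h2
    rw [Shape.B_add_left, h2, CharTwo.add_self_eq_zero] at h1
    exact zero_ne_one h1
  have hle := o.card_X_le (fun x : o.X => decide (∀ i, π x i = i)) fun x x' hxx => by
    refine o.mem_K_of_fixes sc ht _ (hdet _ fun i => ?_)
    have hiff := decide_eq_decide.1 hxx
    rw [hπmul]
    rcases three_points (π x) (π x') (hsq x) (hsq x')
      (fun i => by rw [← hπmul, ← hπmul, o.X_comm ht]) with h | h | h
    · rw [h, hiff.1 h i]
    · rw [h, hiff.2 h i]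
    · rw [← h i, hsq]
  have hK4 : Nat.card o.K ≤ 4 := by
    refine (Nat.card_le_card_of_injective
      (fun e : o.K => (decide ((e : G) = 1 ∨ (e : G) = e1), decide ((e : G) = 1 ∨ (e : G) = e2)))
      fun a b h => ?_).trans (by simp)
    simp only [Prod.mk.injEq, decide_eq_decide] at h
    have d12 : e1 ≠ e2 := fun q => he2ne q.symm
    have d13 : e1 * e2 ≠ e1 := fun q => he21 (mul_eq_left.1 q)
    have d23 : e1 * e2 ≠ e2 := fun q => he1' (mul_eq_right.1 q)
    refine Subtype.ext ?_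
    obtain ⟨hp, hq⟩ := h
    rcases hKall _ a.2 with ha | ha | ha | ha <;> rcases hKall _ b.2 with hb | hb | hb | hb <;>
      rw [ha, hb] at hp hq ⊢ <;>
      simp only [he1', he21, he31, d12, d12.symm, d13, d23, or_self, or_true, true_or, iff_false,
        false_iff, not_true_eq_false] at hp hq ⊢
  simp only [Nat.card_eq_fintype_card, Fintype.card_bool] at hle
  omega

end Inv

end CfsgLib.USixAut
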