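import Cfsg.Agent.USixRec.InJ
import Cfsg.Agent.LargeExtraspecial.Simplicity
import Cfsg.Agent.S0814

/-!
# An involution centralizer `2^{1+8}.Aut(PSp₄(3))`: the inner half and the action on `J / Z(J)`

`H0` is the preimage of the inner automorphisms; inside it the centralizer of `z` is `2^{1+8}.PSp₄(3)`,
so it carries a `USixRec.Shape`. The whole centralizer acts on the same vector space, semilinearly with
respect to the action of `PSp₄(3)`.
-/

set_option autoImplicit false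
set_option linter.style.haveILetI false

open CfsgLib.LargeExtraspecial CfsgLib.SpFourThree70

namespace CfsgLib.USixAut

open CfsgLib.USixRec (Shape)

universe u

/-- An involution centralizer with `Q = O₂` extraspecial of order `2⁹` and quotient `Aut(PSp₄(3))`. -/
structure AutShape (G : Type u) [Group G] where
  /-- the involution -/
  z : G
  /-- the extraspecial subgroup -/
  Q : Subgroup G
  sub : IsZSub Q z
  card_Q : Nat.card Q = 512
  /-- the quotient map -/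
  ρ : ↥(Subgroup.centralizer ({z} : Set G)) →* MulAut P
  ρ_surj : Function.Surjective ρ
  ρ_ker : ∀ m, ρ m = 1 ↔ (m : G) ∈ Q
  faithful : ∀ m ∈ Subgroup.centralizer ({z} : Set G),
    (∀ e ∈ Q, e⁻¹ * (m * e * m⁻¹) = 1 ∨ e⁻¹ * (m * e * m⁻¹) = z) → m ∈ Q

theorem conjP_injective : Function.Injective (MulAut.conj : P →* MulAut P) :=
  CfsgLib.AutPSp.conj_injective (F := ZMod 3) 3 (by norm_num)

theorem index_conjP : (MulAut.conj : P →* MulAut P).range.index = 2 := by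
  have h1 : Nat.card (MulAut P) = _ :=
    Cfsg.Agent.S0814.result (F := ZMod 3) 3 1 le_rfl (by simp [ZMod.card]) 2 le_rfl (by norm_num)
  have h2 := (MulAut.conj : P →* MulAut P).range.index_mul_card
  rw [← Nat.card_congr (MonoidHom.ofInjective conjP_injective).toEquiv, h1] at h2
  have hc : Nat.card (Cfsg.PSp 2 (ZMod 3)) = 25920 := SpFourThree70.card_P
  have hg : Nat.gcd 2 (3 ^ 1 - 1) = 2 := by decide
  rw [if_neg (fun h => absurd h.2 (by decide : ¬ 3 = 2)), hg, hc, one_mul, mul_one] at h2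
  exact mul_right_cancel₀ (b := 25920) (by norm_num) h2

namespace AutShape

variable {G : Type u} [Group G] (S : AutShape G)

/-- The centralizer of `z`. -/
abbrev C : Subgroup G := Subgroup.centralizer ({S.z} : Set G)

theorem mem_C {x : G} (hx : x * S.z = S.z * x) : x ∈ S.C :=
  Subgroup.mem_centralizer_singleton_iff.mpr hx

theorem comm_C {x : G} (hx : x ∈ S.C) : x * S.z = S.z * x :=
  Subgroup.mem_centralizer_singleton_iff.mp hx

theorem Q_le_C {x : G} (hx : x ∈ S.Q) : x ∈ S.C := S.mem_C (S.sub.z_comm hx)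

theorem conj_mem {m x : G} (hm : m ∈ S.C) (hx : x ∈ S.Q) : m * x * m⁻¹ ∈ S.Q :=
  S.sub.conj_mem (S.comm_C hm) hx

/-- The inverse image of the inner automorphisms. -/
def inner : Subgroup ↥S.C := (MulAut.conj : P →* MulAut P).range.comap S.ρ

/-- The same as a subgroup of `G`. -/
def H0 : Subgroup G := S.inner.map S.C.subtype

theorem H0_le : S.H0 ≤ S.C := Subgroup.map_subtype_le _

theorem mem_H0 {x : G} (hx : x ∈ S.C) :
    x ∈ S.H0 ↔ S.ρ ⟨x, hx⟩ ∈ (MulAut.conj : P →* MulAut P).range := by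
  constructor
  · rintro ⟨⟨y, hy⟩, h, rfl⟩
    exact h
  · exact fun h => ⟨⟨x, hx⟩, h, rfl⟩

theorem Q_le_H0 : S.Q ≤ S.H0 := fun x hx => by
  rw [S.mem_H0 (S.Q_le_C hx), (S.ρ_ker ⟨x, S.Q_le_C hx⟩).2 hx]
  exact one_mem _

theorem z_mem_H0 : S.z ∈ S.H0 := S.Q_le_H0 S.sub.z_mem

theorem mul_mem_H0_iff {a b : G} (ha : a ∈ S.C) (hb : b ∈ S.C) :
    a * b ∈ S.H0 ↔ (a ∈ S.H0 ↔ b ∈ S.H0) := by
  rw [S.mem_H0 ha, S.mem_H0 hb, S.mem_H0 (mul_mem ha hb),
    show (⟨a * b, mul_mem ha hb⟩ : ↥S.C) = ⟨a, ha⟩ * ⟨b, hb⟩ from rfl, map_mul]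
  exact Subgroup.mul_mem_iff_of_index_two index_conjP

theorem conj_mem_H0 {a b : G} (ha : a ∈ S.C) (hb : b ∈ S.H0) : a * b * a⁻¹ ∈ S.H0 := by
  rw [S.mul_mem_H0_iff (mul_mem ha (S.H0_le hb)) (inv_mem ha),
    S.mul_mem_H0_iff ha (S.H0_le hb), inv_mem_iff]
  simp [hb]

theorem sq_mem_H0 {a : G} (ha : a ∈ S.C) : a * a ∈ S.H0 := (S.mul_mem_H0_iff ha ha).2 Iff.rfl

/-- A commutator of two elements of `C(z)` is inner. -/
theorem commutator_mem_H0 {a b : G} (ha : a ∈ S.C) (hb : b ∈ S.C) :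
    a * b * a⁻¹ * b⁻¹ ∈ S.H0 := by
  rw [S.mul_mem_H0_iff (mul_mem (mul_mem ha hb) (inv_mem ha)) (inv_mem hb),
    S.mul_mem_H0_iff (mul_mem ha hb) (inv_mem ha), S.mul_mem_H0_iff ha hb, inv_mem_iff, inv_mem_iff]
  tauto

/-- The restriction of the quotient map to `H0`. -/
def ρin : ↥S.H0 →* (MulAut.conj : P →* MulAut P).range :=
  (S.ρ.comp (Subgroup.inclusion S.H0_le)).codRestrict _ fun x => (S.mem_H0 (S.H0_le x.2)).1 x.2

/-- The image in `PSp₄(3)` of an element of `H0`. -/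
noncomputable def inn : ↥S.H0 →* P :=
  (MonoidHom.ofInjective conjP_injective).symm.toMonoidHom.comp S.ρin

theorem conj_inn (x : ↥S.H0) : MulAut.conj (S.inn x) = S.ρ ⟨(x : G), S.H0_le x.2⟩ := by
  have h := (MonoidHom.ofInjective conjP_injective).apply_symm_apply (S.ρin x)
  exact congrArg Subtype.val h

theorem inn_surj : Function.Surjective S.inn := fun σ => by
  obtain ⟨m, hm⟩ := S.ρ_surj (MulAut.conj σ)
  have hm0 : (m : G) ∈ S.H0 := (S.mem_H0 m.2).2 ⟨σ, hm.symm⟩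
  exact ⟨⟨m, hm0⟩, conjP_injective (by rw [S.conj_inn, ← hm])⟩

theorem inn_eq_one (x : ↥S.H0) : S.inn x = 1 ↔ (x : G) ∈ S.Q := by
  rw [← S.ρ_ker ⟨(x : G), S.H0_le x.2⟩, ← S.conj_inn]
  exact (map_eq_one_iff _ conjP_injective).symm

/-- `z` in `H0`. -/
def z0 : ↥S.H0 := ⟨S.z, S.z_mem_H0⟩

theorem sub0 : IsZSub (S.Q.subgroupOf S.H0) S.z0 := by
  have e : ↥(S.Q.subgroupOf S.H0) ≃* ↥S.Q := Subgroup.subgroupOfEquivOfLe S.Q_le_H0
  have hz : ∀ x : ↥S.H0, x ∈ (Subgroup.center ↥(S.Q.subgroupOf S.H0)).map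
      (S.Q.subgroupOf S.H0).subtype ↔ ((x : G) = 1 ∨ (x : G) = S.z) := by
    intro x
    constructor
    · rintro ⟨c, hc, rfl⟩
      refine S.sub.mem_of_commutes (c := ((c : ↥S.H0) : G)) fun y hy => ?_
      exact congrArg (fun a : ↥(S.Q.subgroupOf S.H0) => ((a : ↥S.H0) : G))
        (Subgroup.mem_center_iff.mp hc ⟨⟨y, S.Q_le_H0 hy⟩, hy⟩)
    · intro h
      have hxQ : (x : G) ∈ S.Q := by
        rcases h with h | h <;> rw [h]
        exacts [one_mem _, S.sub.z_mem]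
      refine ⟨⟨x, hxQ⟩, Subgroup.mem_center_iff.mpr fun y => Subtype.ext (Subtype.ext ?_), rfl⟩
      show ((y : ↥S.H0) : G) * x = x * ((y : ↥S.H0) : G)
      rcases h with h | h <;> rw [h]
      · simp
      · exact S.sub.z_comm y.2
  refine ⟨isExtraspecial_of_mulEquiv e.symm S.sub.extra, ?_, ?_, ?_, ?_⟩
  · refine le_antisymm (fun x hx => (hz x).2 ?_) fun x hx => ?_
    · refine S.sub.mem_of_commutes fun y hy => ?_
      exact congrArg Subtype.val (Subgroup.mem_centralizer_iff.mp hx ⟨y, S.Q_le_H0 hy⟩ hy)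
    · refine Subgroup.mem_centralizer_iff.mpr fun y hy => Subtype.ext ?_
      show (y : G) * x = x * y
      rcases (hz x).1 hx with h | h <;> rw [h]
      · simp
      · exact S.sub.z_comm hy
  · intro x _
    rw [Subgroup.mem_normalizer_iff]
    intro y
    simp only [Subgroup.mem_subgroupOf, Subgroup.coe_mul, Subgroup.coe_inv]
    refine ⟨fun h => S.conj_mem (S.H0_le x.2) h, fun h => ?_⟩
    have := S.conj_mem (inv_mem (S.H0_le x.2)) h
    simpa [mul_assoc] using this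
  · refine le_antisymm (fun x hx => ?_) (Subgroup.zpowers_le.mpr ((hz _).2 (Or.inr rfl)))
    rcases (hz x).1 hx with h | h
    · rw [show x = 1 from Subtype.ext h]; exact one_mem _
    · rw [show x = S.z0 from Subtype.ext h]; exact Subgroup.mem_zpowers _
  · rw [← S.sub.two]
    exact (orderOf_injective S.H0.subtype (Subgroup.subtype_injective _) S.z0).symm

/-- The `2^{1+8}.PSp₄(3)` inside. -/
noncomputable def S0 : Shape ↥S.H0 where
  z := S.z0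
  Q := S.Q.subgroupOf S.H0
  sub := S.sub0
  card_Q := by
    rw [Nat.card_congr (Subgroup.subgroupOfEquivOfLe S.Q_le_H0).toEquiv, S.card_Q]
  ρ := S.inn.comp (Subgroup.centralizer ({S.z0} : Set ↥S.H0)).subtype
  ρ_surj := fun σ => by
    obtain ⟨x, rfl⟩ := S.inn_surj σ
    exact ⟨⟨x, Subgroup.mem_centralizer_singleton_iff.mpr
      (Subtype.ext (S.comm_C (S.H0_le x.2)))⟩, rfl⟩
  ρ_ker := fun m => S.inn_eq_one m
  faithful := fun m _ h => S.faithful (m : G) (S.H0_le m.2) fun e he => by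
    rcases h ⟨e, S.Q_le_H0 he⟩ he with h' | h'
    · exact Or.inl (congrArg Subtype.val h')
    · exact Or.inr (congrArg Subtype.val h')

/-- The vector space `Q / Z(Q)`. -/
abbrev Vec := S.S0.Vec

open Classical in
/-- The vector of an element of `Q`. -/
noncomputable def pG (x : G) : S.Vec := if h : x ∈ S.H0 then S.S0.pr ⟨x, h⟩ else 0

variable {S}

theorem pG_of_mem {x : G} (hx : x ∈ S.Q) : S.pG x = S.S0.pr ⟨x, S.Q_le_H0 hx⟩ :=
  dif_pos (S.Q_le_H0 hx)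

theorem pG_mul {x y : G} (hx : x ∈ S.Q) (hy : y ∈ S.Q) : S.pG (x * y) = S.pG x + S.pG y := by
  rw [pG_of_mem hx, pG_of_mem hy, pG_of_mem (mul_mem hx hy),
    ← Shape.pr_mul (S := S.S0) (show (⟨x, S.Q_le_H0 hx⟩ : ↥S.H0) ∈ S.S0.Q from hx)
      (show (⟨y, S.Q_le_H0 hy⟩ : ↥S.H0) ∈ S.S0.Q from hy)]
  rfl

theorem pG_eq_zero {x : G} (hx : x ∈ S.Q) : S.pG x = 0 ↔ x = 1 ∨ x = S.z := by
  rw [pG_of_mem hx, Shape.pr_eq_zero (show (⟨x, S.Q_le_H0 hx⟩ : ↥S.H0) ∈ S.S0.Q from hx)]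
  exact or_congr Subtype.ext_iff Subtype.ext_iff

theorem pG_eq_iff {x y : G} (hx : x ∈ S.Q) (hy : y ∈ S.Q) :
    S.pG x = S.pG y ↔ x = y ∨ x = S.z * y := by
  rw [pG_of_mem hx, pG_of_mem hy,
    Shape.pr_eq_iff (show (⟨x, S.Q_le_H0 hx⟩ : ↥S.H0) ∈ S.S0.Q from hx)
      (show (⟨y, S.Q_le_H0 hy⟩ : ↥S.H0) ∈ S.S0.Q from hy)]
  exact or_congr Subtype.ext_iff Subtype.ext_iff

theorem pG_surj (v : S.Vec) : ∃ x ∈ S.Q, S.pG x = v := by
  obtain ⟨⟨x, hx'⟩, hx, rfl⟩ := Shape.pr_surj (S := S.S0) v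
  exact ⟨x, hx, pG_of_mem hx⟩

theorem pG_inv {x : G} (hx : x ∈ S.Q) : S.pG x⁻¹ = S.pG x := by
  have h := pG_mul (inv_mem hx) hx
  rw [inv_mul_cancel, (pG_eq_zero (one_mem S.Q)).2 (Or.inl rfl)] at h
  rw [eq_neg_of_add_eq_zero_left h.symm, Shape.neg_eq']

@[simp] theorem pG_one : S.pG (1 : G) = 0 := (pG_eq_zero (one_mem S.Q)).2 (Or.inl rfl)

@[simp] theorem pG_z : S.pG S.z = 0 := (pG_eq_zero S.sub.z_mem).2 (Or.inr rfl)

theorem zc_ne {A : Type*} [Group A] {a : A} (h : a ≠ 1) : Shape.zc a = (1 : ZMod 2) := by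
  rw [Shape.zc, if_neg h]

theorem zc_eq_zero_iff {A : Type*} [Group A] (a : A) : Shape.zc a = (0 : ZMod 2) ↔ a = 1 :=
  ⟨Shape.zc_eq_zero, fun h => h ▸ Shape.zc_one⟩

theorem q_pG {x : G} (hx : x ∈ S.Q) : S.S0.q (S.pG x) = 0 ↔ x * x = 1 := by
  rw [pG_of_mem hx, Shape.q_pr (show (⟨x, S.Q_le_H0 hx⟩ : ↥S.H0) ∈ S.S0.Q from hx), zc_eq_zero_iff]
  exact Subtype.ext_iff

theorem B_pG {x y : G} (hx : x ∈ S.Q) (hy : y ∈ S.Q) :
    S.S0.B (S.pG x) (S.pG y) = 0 ↔ x * y = y * x := by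
  rw [pG_of_mem hx, pG_of_mem hy,
    Shape.B_eq_zero_iff (show (⟨x, S.Q_le_H0 hx⟩ : ↥S.H0) ∈ S.S0.Q from hx)
      (show (⟨y, S.Q_le_H0 hy⟩ : ↥S.H0) ∈ S.S0.Q from hy)]
  exact Subtype.ext_iff

theorem conj_congr {m x y : G} (hm : m ∈ S.C) (h : x = y ∨ x = S.z * y) :
    m * x * m⁻¹ = m * y * m⁻¹ ∨ m * x * m⁻¹ = S.z * (m * y * m⁻¹) := by
  rcases h with rfl | rfl
  · exact Or.inl rfl
  · right
    rw [show m * (S.z * y) * m⁻¹ = m * S.z * y * m⁻¹ by group, S.comm_C hm]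
    group

variable (S)

open Classical in
/-- The action of `C(z)` on a vector. -/
noncomputable def cfun (m : G) (v : S.Vec) : S.Vec :=
  S.pG (m * Classical.choose (pG_surj v) * m⁻¹)

variable {S}

theorem cfun_pG {m x : G} (hm : m ∈ S.C) (hx : x ∈ S.Q) :
    S.cfun m (S.pG x) = S.pG (m * x * m⁻¹) := by
  obtain ⟨hy, hye⟩ := Classical.choose_spec (pG_surj (S.pG x))
  exact (pG_eq_iff (S.conj_mem hm hy) (S.conj_mem hm hx)).2
    (conj_congr hm ((pG_eq_iff hy hx).1 hye))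

variable (S)

/-- The action of an element of `C(z)`. -/
noncomputable def cact (m : ↥S.C) : S.Vec →+ S.Vec where
  toFun := S.cfun (m : G)
  map_zero' := by
    conv_lhs => rw [← pG_one (S := S), cfun_pG m.2 (one_mem _)]
    simp
  map_add' v w := by
    obtain ⟨x, hx, rfl⟩ := pG_surj v
    obtain ⟨y, hy, rfl⟩ := pG_surj w
    rw [← pG_mul hx hy, cfun_pG m.2 (mul_mem hx hy), cfun_pG m.2 hx, cfun_pG m.2 hy,
      ← pG_mul (S.conj_mem m.2 hx) (S.conj_mem m.2 hy)]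
    congr 1
    group

variable {S}

theorem cact_pG (m : ↥S.C) {x : G} (hx : x ∈ S.Q) :
    S.cact m (S.pG x) = S.pG ((m : G) * x * (m : G)⁻¹) := cfun_pG m.2 hx

theorem cact_mul (m n : ↥S.C) (v : S.Vec) : S.cact (m * n) v = S.cact m (S.cact n v) := by
  obtain ⟨x, hx, rfl⟩ := pG_surj v
  rw [cact_pG _ hx, cact_pG _ hx, cact_pG _ (S.conj_mem n.2 hx)]
  congr 1
  simp [mul_assoc]

@[simp] theorem cact_one (v : S.Vec) : S.cact 1 v = v := by
  obtain ⟨x, hx, rfl⟩ := pG_surj v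
  rw [cact_pG _ hx]
  simp

theorem cact_q (m : ↥S.C) (v : S.Vec) : S.S0.q (S.cact m v) = S.S0.q v := by
  obtain ⟨x, hx, rfl⟩ := pG_surj v
  have h : S.S0.q (S.pG ((m : G) * x * (m : G)⁻¹)) = 0 ↔ S.S0.q (S.pG x) = 0 := by
    rw [q_pG (S.conj_mem m.2 hx), q_pG hx,
      show (m : G) * x * (m : G)⁻¹ * ((m : G) * x * (m : G)⁻¹) = (m : G) * (x * x) * (m : G)⁻¹ by group,
      conj_eq_one_iff]
  rw [cact_pG _ hx]
  revert h
  generalize S.S0.q (S.pG ((m : G) * x * (m : G)⁻¹)) = a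
  generalize S.S0.q (S.pG x) = b
  revert a b
  decide

theorem cact_B (m : ↥S.C) (v w : S.Vec) : S.S0.B (S.cact m v) (S.cact m w) = S.S0.B v w := by
  unfold Shape.B
  rw [← map_add, cact_q, cact_q, cact_q]

/-- An inner element acts by its image. -/
theorem cact_inn {x : G} (hx : x ∈ S.H0) (v : S.Vec) :
    S.cact ⟨x, S.H0_le hx⟩ v = S.S0.act (S.inn ⟨x, hx⟩) v := by
  obtain ⟨⟨y, hy'⟩, hy, rfl⟩ := Shape.pr_surj (S := S.S0) v
  have e : S.S0.ρ ⟨⟨x, hx⟩, Subgroup.mem_centralizer_singleton_iff.mpr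
      (Subtype.ext (S.comm_C (S.H0_le hx)))⟩ = S.inn ⟨x, hx⟩ := rfl
  rw [show S.S0.pr ⟨y, hy'⟩ = S.pG y from (pG_of_mem hy).symm]
  change S.cact ⟨x, S.H0_le hx⟩ (S.pG y) = _
  rw [cact_pG (⟨x, S.H0_le hx⟩ : ↥S.C) (show y ∈ S.Q from hy), pG_of_mem (show y ∈ S.Q from hy), ← e,
    Shape.act_pr (S := S.S0) _ (show (⟨y, S.Q_le_H0 hy⟩ : ↥S.H0) ∈ S.S0.Q from hy)]
  exact pG_of_mem (S.conj_mem (S.H0_le hx) (show y ∈ S.Q from hy))

/-- The action is semilinear with respect to the automorphism induced. -/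
theorem cact_twist (m : ↥S.C) (σ : P) (v : S.Vec) :
    S.cact m (S.S0.act σ v) = S.S0.act (S.ρ m σ) (S.cact m v) := by
  obtain ⟨⟨n, hn⟩, rfl⟩ := S.inn_surj σ
  have hmn : (m : G) * n * (m : G)⁻¹ ∈ S.H0 := S.conj_mem_H0 m.2 hn
  have e : S.inn ⟨_, hmn⟩ = S.ρ m (S.inn ⟨n, hn⟩) := conjP_injective <| by
    rw [S.conj_inn, show (⟨(m : G) * n * (m : G)⁻¹, S.H0_le hmn⟩ : ↥S.C) = m * ⟨n, S.H0_le hn⟩ * m⁻¹
      from rfl, map_mul, map_mul, map_inv, ← S.conj_inn ⟨n, hn⟩]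
    refine MulEquiv.ext fun a => ?_
    show S.ρ m (MulAut.conj (S.inn ⟨n, hn⟩) ((S.ρ m)⁻¹ a)) = MulAut.conj (S.ρ m (S.inn ⟨n, hn⟩)) a
    rw [MulAut.conj_apply, MulAut.conj_apply, map_mul, map_mul, map_inv, MulAut.apply_inv_self]
  rw [← e, ← cact_inn hn, ← cact_inn hmn, ← cact_mul, ← cact_mul]
  refine DFunLike.congr_fun (congrArg S.cact (Subtype.ext ?_)) _
  show (m : G) * n = (m : G) * n * (m : G)⁻¹ * (m : G)
  group

theorem cact_congr {m n : ↥S.C} (h : S.ρ m = S.ρ n) (v : S.Vec) : S.cact m v = S.cact n v := by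
  have hq : ((m⁻¹ * n : ↥S.C) : G) ∈ S.Q :=
    (S.ρ_ker _).1 (by rw [map_mul, map_inv, h, inv_mul_cancel])
  conv_rhs => rw [show n = m * (m⁻¹ * n) by group, cact_mul]
  congr 1
  obtain ⟨x, hx, rfl⟩ := pG_surj v
  rw [cact_pG _ hx, eq_comm, pG_eq_iff (S.conj_mem (m⁻¹ * n).2 hx) hx]
  rcases S.sub.conj_eq hq hx with e | e
  exacts [Or.inl e, Or.inr e]

theorem cact_of_mem_Q {x : G} (hx : x ∈ S.Q) (v : S.Vec) : S.cact ⟨x, S.Q_le_C hx⟩ v = v := by
  rw [cact_congr (n := 1) (by rw [map_one]; exact (S.ρ_ker _).2 hx), cact_one]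

end AutShape

end CfsgLib.USixAut
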